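import Mathlib

/-!
Counting conjugacy classes of `π`-elements in finite groups.
-/

set_option autoImplicit false

universe u v

namespace Cfsg.Agent.Lib.PiClasses

/-- All prime divisors of the order of `x` lie in `π`. -/
def IsPiElt (π : Set ℕ) {G : Type u} [Group G] (x : G) : Prop :=
  ∀ r : ℕ, r.Prime → r ∣ orderOf x → r ∈ π

/-- The conjugacy classes consisting of `π`-elements. -/
abbrev PiClass (π : Set ℕ) (G : Type u) [Group G] : Type u :=
  {c : ConjClasses G // ∀ x ∈ c.carrier, IsPiElt π x}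

/-- The `π`-part of the order of `G`, for a finite set of primes `π`. -/
noncomputable def piPart (π : Finset ℕ) (G : Type u) [Group G] : ℕ :=
  π.prod (fun r => r ^ (Nat.card G).factorization r)

variable {G : Type u} [Group G]

theorem orderOf_eq_of_isConj {x y : G} (h : IsConj x y) : orderOf x = orderOf y := by
  obtain ⟨c, rfl⟩ := isConj_iff.mp h
  rw [← MulAut.conj_apply, MulEquiv.orderOf_eq]

theorem isPiElt_of_isConj {π : Set ℕ} {x y : G} (h : IsConj x y) (hx : IsPiElt π x) :
    IsPiElt π y := by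
  unfold IsPiElt at *
  rwa [← orderOf_eq_of_isConj h]

theorem mk_piElt_iff {π : Set ℕ} (x : G) :
    (∀ y ∈ (ConjClasses.mk x).carrier, IsPiElt π y) ↔ IsPiElt π x := by
  refine ⟨fun h => h x (ConjClasses.mem_carrier_mk), fun h y hy => ?_⟩
  rw [ConjClasses.mem_carrier_iff_mk_eq, ConjClasses.mk_eq_mk_iff_isConj] at hy
  exact isPiElt_of_isConj hy.symm h

theorem card_piClass_eq_of_iff {π : Set ℕ} {P : G → Prop} (h : ∀ x, IsPiElt π x ↔ P x) :
    Nat.card (PiClass π G) = Nat.card {c : ConjClasses G // ∀ x ∈ c.carrier, P x} :=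
  Nat.card_congr (Equiv.subtypeEquivRight fun _ => forall_congr' fun x => forall_congr' fun _ => h x)

theorem isPiElt_singleton_iff [Finite G] {p : ℕ} [hp : Fact p.Prime] (x : G) :
    IsPiElt ({p} : Set ℕ) x ↔ ∃ k : ℕ, orderOf x = p ^ k := by
  constructor
  · intro h
    exact ⟨_, Nat.eq_prime_pow_of_unique_prime_dvd (orderOf_pos x).ne' fun {d} hd hdx => h d hd hdx⟩
  · rintro ⟨k, hk⟩ r hr hdvd
    rw [hk] at hdvd
    exact (Nat.prime_dvd_prime_iff_eq hr hp.out).mp (hr.dvd_of_dvd_pow hdvd)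

/-- If every `π`-class meets the image of a map, the number of `π`-classes is bounded by the
domain. -/
theorem card_piClass_le_of_cover [Finite G] {π : Set ℕ} {T : Type v} [Finite T]
    (f : T → ConjClasses G) (h : ∀ x : G, IsPiElt π x → ∃ t, f t = ConjClasses.mk x) :
    Nat.card (PiClass π G) ≤ Nat.card T := by
  have hrange : ∀ c : PiClass π G, ∃ t, f t = c.1 := by
    rintro ⟨c, hc⟩
    obtain ⟨x, rfl⟩ := ConjClasses.mk_surjective c
    exact h x ((mk_piElt_iff x).mp hc)
  choose s hs using hrange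
  have hinj : Function.Injective s := fun a b hab =>
    Subtype.ext (by rw [← hs a, ← hs b, hab])
  exact Nat.card_le_card_of_injective s hinj

/-- The part of an element of finite order at a prime, and the complementary part. -/
theorem exists_decomposition [Finite G] {p : ℕ} [hp : Fact p.Prime] {π : Set ℕ} {x : G}
    (hx : IsPiElt (insert p π) x) :
    ∃ y z : G, x = y * z ∧ Commute y z ∧ IsPiElt ({p} : Set ℕ) y ∧ IsPiElt π z := by
  set n := orderOf x with hn
  have hn0 : n ≠ 0 := (orderOf_pos x).ne'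
  set a := p ^ n.factorization p with ha
  set m := n / p ^ n.factorization p with hm
  have ham : a * m = n := Nat.ordProj_mul_ordCompl_eq_self n p
  have hcop : Nat.Coprime a m :=
    Nat.Coprime.pow_left _ (Nat.coprime_ordCompl hp.out hn0)
  obtain ⟨e, he1, he2⟩ := Nat.chineseRemainder hcop 1 0
  obtain ⟨f, hf1, hf2⟩ := Nat.chineseRemainder hcop 0 1
  have hsum : e + f ≡ 1 [MOD n] := by
    rw [← ham]
    exact (Nat.modEq_and_modEq_iff_modEq_mul hcop).mp ⟨he1.add hf1, he2.add hf2⟩
  have hye : (x ^ e) ^ a = 1 := by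
    rw [← pow_mul]
    apply orderOf_dvd_iff_pow_eq_one.mp
    rw [← hn, ← ham, mul_comm e a]
    exact Nat.mul_dvd_mul_left a ((Nat.modEq_zero_iff_dvd).mp he2)
  have hzf : (x ^ f) ^ m = 1 := by
    rw [← pow_mul]
    apply orderOf_dvd_iff_pow_eq_one.mp
    rw [← hn, ← ham]
    exact Nat.mul_dvd_mul_right ((Nat.modEq_zero_iff_dvd).mp hf1) m
  refine ⟨x ^ e, x ^ f, ?_, Commute.pow_pow_self x e f, ?_, ?_⟩
  · rw [← pow_add]
    conv_lhs => rw [← pow_one x]
    exact pow_eq_pow_iff_modEq.mpr hsum.symm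
  · intro r hr hdvd
    exact (Nat.prime_dvd_prime_iff_eq hr hp.out).mp
      (hr.dvd_of_dvd_pow (hdvd.trans (orderOf_dvd_of_pow_eq_one hye)))
  · intro r hr hdvd
    have hrm : r ∣ m := hdvd.trans (orderOf_dvd_of_pow_eq_one hzf)
    rcases hx r hr (by rw [← hn, ← ham]; exact hrm.mul_left a) with h | h
    · subst h
      exact absurd hrm (Nat.not_dvd_ordCompl hp.out hn0)
    · exact h

theorem piPart_le_of_dvd {H : Type v} [Group H] [Finite G] [Finite H] (π : Finset ℕ)
    (hπ : ∀ r ∈ π, r.Prime) (h : Nat.card H ∣ Nat.card G) : piPart π H ≤ piPart π G := by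
  refine Finset.prod_le_prod' fun r hr => Nat.pow_le_pow_right (hπ r hr).pos ?_
  exact (Nat.factorization_le_iff_dvd Nat.card_pos.ne' Nat.card_pos.ne').mpr h r

/-- Split off one prime: the bound used in the induction. -/
theorem card_piClass_insert_le [Finite G] {p : ℕ} [Fact p.Prime] {π : Set ℕ} {B : ℕ}
    (hB : ∀ y : G, Nat.card (PiClass π ↥(Subgroup.centralizer ({y} : Set G))) ≤ B) :
    Nat.card (PiClass (insert p π) G) ≤ Nat.card (PiClass ({p} : Set ℕ) G) * B := by
  classical
  let rep : PiClass ({p} : Set ℕ) G → G := fun c => Quotient.out c.1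
  have hrep : ∀ c, ConjClasses.mk (rep c) = c.1 := fun c => Quotient.out_eq c.1
  let T := Σ c : PiClass ({p} : Set ℕ) G, PiClass π ↥(Subgroup.centralizer ({rep c} : Set G))
  let f : T → ConjClasses G := fun t => ConjClasses.mk (rep t.1 * (Quotient.out t.2.1).1)
  have hcov : ∀ x : G, IsPiElt (insert p π) x → ∃ t, f t = ConjClasses.mk x := by
    intro x hx
    obtain ⟨y, z, rfl, hyz, hy, hz⟩ := exists_decomposition hx
    let c : PiClass ({p} : Set ℕ) G := ⟨ConjClasses.mk y, (mk_piElt_iff y).mpr hy⟩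
    have hc : IsConj y (rep c) := ConjClasses.mk_eq_mk_iff_isConj.mp (hrep c).symm
    obtain ⟨g, hg⟩ := isConj_iff.mp hc
    have hcomm : Commute (rep c) (g * z * g⁻¹) := by
      rw [← hg, ← MulAut.conj_apply, ← MulAut.conj_apply]
      exact hyz.map (MulAut.conj g)
    let z' : ↥(Subgroup.centralizer ({rep c} : Set G)) := ⟨g * z * g⁻¹, by
      rw [Subgroup.mem_centralizer_singleton_iff]; exact hcomm.eq.symm⟩
    have hz' : IsPiElt π z' := fun r hr hd => by
      refine isPiElt_of_isConj (isConj_iff.mpr ⟨g, rfl⟩) hz r hr ?_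
      rwa [← Subgroup.orderOf_coe] at hd
    let d : PiClass π ↥(Subgroup.centralizer ({rep c} : Set G)) :=
      ⟨ConjClasses.mk z', (mk_piElt_iff z').mpr hz'⟩
    refine ⟨⟨c, d⟩, ?_⟩
    have hd : IsConj z' (Quotient.out d.1) :=
      ConjClasses.mk_eq_mk_iff_isConj.mp (Quotient.out_eq d.1).symm
    obtain ⟨h, hh⟩ := isConj_iff.mp hd
    have hh' : (h : G) * (g * z * g⁻¹) * (h : G)⁻¹ = (Quotient.out d.1).1 := by
      rw [← hh]; rfl
    apply ConjClasses.mk_eq_mk_iff_isConj.mpr
    refine (isConj_iff.mpr ⟨(h : G) * g, ?_⟩).symm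
    show (h : G) * g * (y * z) * ((h : G) * g)⁻¹ = rep c * (Quotient.out d.1).1
    rw [← hh']
    have hhc : (h : G) * rep c = rep c * (h : G) :=
      Subgroup.mem_centralizer_singleton_iff.mp h.2
    calc (h : G) * g * (y * z) * ((h : G) * g)⁻¹
        = (h : G) * (g * y * g⁻¹) * ((g * z * g⁻¹) * (h : G)⁻¹) := by group
      _ = rep c * ((h : G) * (g * z * g⁻¹) * (h : G)⁻¹) := by rw [hg, hhc]; group
  refine (card_piClass_le_of_cover f hcov).trans ?_
  haveI : Fintype (PiClass ({p} : Set ℕ) G) := Fintype.ofFinite _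
  rw [Nat.card_sigma]
  refine (Finset.sum_le_card_nsmul _ _ B fun c _ => hB (rep c)).trans ?_
  rw [smul_eq_mul, Finset.card_univ, Nat.card_eq_fintype_card]

/-- Every `p`-class meets a given Sylow `p`-subgroup. -/
theorem exists_conj_mem_sylow [Finite G] {p : ℕ} [Fact p.Prime] (P : Sylow p G) {x : G}
    (hx : IsPiElt ({p} : Set ℕ) x) : ∃ y ∈ (P : Subgroup G), IsConj x y := by
  obtain ⟨k, hk⟩ := (isPiElt_singleton_iff x).mp hx
  have hpg : IsPGroup p (Subgroup.zpowers x) :=
    IsPGroup.of_card (n := k) (by rw [Nat.card_zpowers, hk])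
  obtain ⟨Q, hQ⟩ := hpg.exists_le_sylow
  obtain ⟨g, hg⟩ := MulAction.exists_smul_eq G Q P
  refine ⟨g * x * g⁻¹, ?_, isConj_iff.mpr ⟨g, rfl⟩⟩
  rw [← hg, Sylow.coe_subgroup_smul, Subgroup.mem_pointwise_smul_iff_inv_smul_mem]
  simpa [MulAut.smul_def, MulAut.conj_apply, MulAut.inv_def, mul_assoc] using
    hQ (Subgroup.mem_zpowers x)

/-- `k_p(G) ≤ k(P)`. -/
theorem card_pClass_le_sylow [Finite G] {p : ℕ} [Fact p.Prime] (P : Sylow p G) :
    Nat.card (PiClass ({p} : Set ℕ) G) ≤ Nat.card (ConjClasses ↥(P : Subgroup G)) := by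
  refine card_piClass_le_of_cover (ConjClasses.map (P : Subgroup G).subtype) fun x hx => ?_
  obtain ⟨y, hy, hxy⟩ := exists_conj_mem_sylow P hx
  exact ⟨ConjClasses.mk ⟨y, hy⟩, ConjClasses.mk_eq_mk_iff_isConj.mpr hxy.symm⟩

theorem card_conjClasses_le (G : Type u) [Group G] [Finite G] :
    Nat.card (ConjClasses G) ≤ Nat.card G :=
  Nat.card_le_card_of_surjective _ ConjClasses.mk_surjective

theorem card_pClass_le_pow [Finite G] {p : ℕ} [hp : Fact p.Prime] :
    Nat.card (PiClass ({p} : Set ℕ) G) ≤ p ^ (Nat.card G).factorization p := by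
  have P : Sylow p G := Classical.arbitrary _
  exact (card_pClass_le_sylow P).trans
    ((card_conjClasses_le _).trans_eq P.card_eq_multiplicity)

/-- `k_π(G) ≤ |G|_π`. -/
theorem card_piClass_le_piPart (π : Finset ℕ) (hπ : ∀ r ∈ π, r.Prime) :
    ∀ (G : Type u) [Group G] [Finite G], Nat.card (PiClass (↑π : Set ℕ) G) ≤ piPart π G := by
  induction π using Finset.induction with
  | empty =>
    intro G _ _
    have : Nat.card (PiClass (↑(∅ : Finset ℕ) : Set ℕ) G) ≤ Nat.card Unit :=
      card_piClass_le_of_cover (fun _ => ConjClasses.mk 1) fun x hx => ⟨(), by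
        have h1 : x = 1 := orderOf_eq_one_iff.mp <| Nat.eq_one_iff_not_exists_prime_dvd.mpr
          fun r hr hd => by simpa using hx r hr hd
        rw [h1]⟩
    simpa [piPart] using this
  | insert p π hp ih =>
    intro G _ _
    haveI : Fact p.Prime := ⟨hπ p (Finset.mem_insert_self p π)⟩
    have hπ' : ∀ r ∈ π, r.Prime := fun r hr => hπ r (Finset.mem_insert_of_mem hr)
    rw [Finset.coe_insert]
    refine (card_piClass_insert_le (B := piPart π G) fun y => ?_).trans ?_
    · exact (ih hπ' _).trans (piPart_le_of_dvd π hπ' (Subgroup.card_subgroup_dvd_card _))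
    · unfold piPart
      rw [Finset.prod_insert hp]
      exact Nat.mul_le_mul_right _ card_pClass_le_pow

/-- `k_π(G) ≤ k_p(G) |G|_{π∖p}`. -/
theorem card_piClass_le_mul [Finite G] {p : ℕ} [Fact p.Prime] (π : Finset ℕ)
    (hπ : ∀ r ∈ π, r.Prime) (hp : p ∈ π) :
    Nat.card (PiClass (↑π : Set ℕ) G) ≤
      Nat.card (PiClass ({p} : Set ℕ) G) * piPart (π.erase p) G := by
  conv_lhs => rw [← Finset.insert_erase hp, Finset.coe_insert]
  have hπ' : ∀ r ∈ π.erase p, r.Prime := fun r hr => hπ r (Finset.mem_of_mem_erase hr)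
  exact card_piClass_insert_le fun y =>
    (card_piClass_le_piPart _ hπ' _).trans
      (piPart_le_of_dvd _ hπ' (Subgroup.card_subgroup_dvd_card _))

/-- The lower bound on one prime inherited from a lower bound on `π`. -/
theorem mul_pow_lt_of_mul_piPart_lt [Finite G] {p : ℕ} [Fact p.Prime] (π : Finset ℕ)
    (hπ : ∀ r ∈ π, r.Prime) (hp : p ∈ π) {a b : ℕ}
    (h : a * piPart π G < b * Nat.card (PiClass (↑π : Set ℕ) G)) :
    a * p ^ (Nat.card G).factorization p < b * Nat.card (PiClass ({p} : Set ℕ) G) := by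
  have h' : piPart π G = p ^ (Nat.card G).factorization p * piPart (π.erase p) G :=
    (Finset.mul_prod_erase π _ hp).symm
  have hlt := h.trans_le (Nat.mul_le_mul_left b (card_piClass_le_mul π hπ hp))
  rw [h', ← mul_assoc, ← mul_assoc] at hlt
  exact Nat.lt_of_mul_lt_mul_right hlt

end Cfsg.Agent.Lib.PiClasses
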