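import Cfsg.Agent.Lib.PiClasses.Basic
import Cfsg.Prelude.Def_Transfer

/-!
Counting classes inside a conjugation-invariant set, and the consequences for `k_p(G)`.
-/

set_option autoImplicit false

universe u

namespace Cfsg.Agent.Lib.PiClasses

variable {G : Type u} [Group G]

/-- The size of a conjugacy class is the index of the centraliser. -/
theorem card_carrier_mk (x : G) :
    Nat.card (ConjClasses.mk x).carrier = (Subgroup.centralizer ({x} : Set G)).index := by
  rw [← ConjAct.orbit_eq_carrier_conjClasses, Nat.card_coe_set_eq,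
    ← MulAction.index_stabilizer, ConjAct.stabilizer_eq_centralizer]
  rfl

theorem index_centralizer_eq_one_iff [Finite G] (x : G) :
    (Subgroup.centralizer ({x} : Set G)).index = 1 ↔ x ∈ Subgroup.center G := by
  rw [Subgroup.index_eq_one, Subgroup.centralizer_eq_top_iff_subset, Set.singleton_subset_iff,
    SetLike.mem_coe]

/-- `s` times the number of classes inside `S`, corrected for classes of size less than `s`. -/
theorem card_classes_mul_le [Finite G] (S : Set G) (s : ℕ) (w : G → ℕ)
    (hw : ∀ x ∈ S, s ≤ (Subgroup.centralizer ({x} : Set G)).index + w x)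
    (hw' : ∀ x y : G, IsConj x y → w x = w y) :
    s * Nat.card {c : ConjClasses G // c.carrier ⊆ S} ≤
      Nat.card S + ∑ᶠ c : {c : ConjClasses G // c.carrier ⊆ S}, w (Quotient.out c.1) := by
  classical
  haveI : Fintype G := Fintype.ofFinite G
  haveI : Fintype {c : ConjClasses G // c.carrier ⊆ S} := Fintype.ofFinite _
  have hinj : Function.Injective
      (fun t : Σ c : {c : ConjClasses G // c.carrier ⊆ S}, c.1.carrier =>
        (⟨t.2.1, t.1.2 t.2.2⟩ : S)) := by
    rintro ⟨⟨c, hc⟩, x, hx⟩ ⟨⟨d, hd⟩, y, hy⟩ h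
    obtain rfl : x = y := congrArg Subtype.val h
    obtain rfl : c = d := (ConjClasses.mem_carrier_iff_mk_eq.mp hx).symm.trans
      (ConjClasses.mem_carrier_iff_mk_eq.mp hy)
    rfl
  have hle := Nat.card_le_card_of_injective _ hinj
  rw [Nat.card_sigma] at hle
  rw [finsum_eq_sum_of_fintype]
  calc s * Nat.card {c : ConjClasses G // c.carrier ⊆ S}
      = ∑ _c : {c : ConjClasses G // c.carrier ⊆ S}, s := by
        simp [Nat.card_eq_fintype_card, mul_comm]
    _ ≤ ∑ c : {c : ConjClasses G // c.carrier ⊆ S},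
          (Nat.card c.1.carrier + w (Quotient.out c.1)) := by
        refine Finset.sum_le_sum fun c _ => ?_
        have hout : ConjClasses.mk (Quotient.out c.1) = c.1 := Quotient.out_eq c.1
        have hmem : Quotient.out c.1 ∈ S := c.2 (ConjClasses.mem_carrier_iff_mk_eq.mpr hout)
        have h1 := hw _ hmem
        rw [← card_carrier_mk, hout] at h1
        exact h1
    _ ≤ _ := by rw [Finset.sum_add_distrib]; exact Nat.add_le_add_right hle _

/-- If the classes in `S` have size at least `s`, there are at most `|S| / s` of them. -/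
theorem card_classes_mul_le_card [Finite G] (S : Set G) (s : ℕ)
    (h : ∀ x ∈ S, s ≤ (Subgroup.centralizer ({x} : Set G)).index) :
    s * Nat.card {c : ConjClasses G // c.carrier ⊆ S} ≤ Nat.card S := by
  simpa using card_classes_mul_le S s (fun _ => 0) (fun x hx => by simpa using h x hx)
    (fun _ _ _ => rfl)

/-- The classes of size one in `S` are the central elements of `S`. -/
theorem card_classes_mul_le_center [Finite G] (S : Set G) (s : ℕ) (hs : 0 < s)
    (h : ∀ x ∈ S, x ∉ Subgroup.center G → s ≤ (Subgroup.centralizer ({x} : Set G)).index) :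
    s * Nat.card {c : ConjClasses G // c.carrier ⊆ S} ≤
      Nat.card S + (s - 1) * Nat.card ↥(S ∩ (Subgroup.center G : Set G)) := by
  classical
  haveI : Fintype G := Fintype.ofFinite G
  haveI : Fintype {c : ConjClasses G // c.carrier ⊆ S} := Fintype.ofFinite _
  refine (card_classes_mul_le S s (fun x => if x ∈ Subgroup.center G then s - 1 else 0) ?_ ?_).trans
    ?_
  · intro x hx
    split
    · next hc => rw [(index_centralizer_eq_one_iff x).mpr hc]; omega
    · next hc => simpa using h x hx hc
  · intro x y hxy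
    have hiff : x ∈ Subgroup.center G ↔ y ∈ Subgroup.center G := by
      rw [← index_centralizer_eq_one_iff, ← index_centralizer_eq_one_iff, ← card_carrier_mk,
        ← card_carrier_mk, ConjClasses.mk_eq_mk_iff_isConj.mpr hxy]
    simp only [hiff]
  · refine Nat.add_le_add_left ?_ _
    rw [finsum_eq_sum_of_fintype, ← Finset.sum_filter, Finset.sum_const, smul_eq_mul, mul_comm]
    refine Nat.mul_le_mul_left _ ?_
    rw [← Nat.card_eq_finsetCard]
    refine Nat.card_le_card_of_injective (fun c => (⟨Quotient.out c.1.1, c.1.2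
      (ConjClasses.mem_carrier_iff_mk_eq.mpr (Quotient.out_eq c.1.1)),
      (Finset.mem_filter.mp c.2).2⟩ : ↥(S ∩ (Subgroup.center G : Set G)))) ?_
    intro a b hab
    exact Subtype.ext (Subtype.ext (Quotient.out_inj.mp (congrArg Subtype.val hab)))

theorem card_conjClasses_eq_univ (G : Type u) [Group G] :
    Nat.card {c : ConjClasses G // c.carrier ⊆ (Set.univ : Set G)} = Nat.card (ConjClasses G) :=
  Nat.card_congr (Equiv.subtypeUnivEquiv fun c => Set.subset_univ _)

/-- `p k(P) ≤ |P| + (p-1)|Z(P)|`. -/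
theorem prime_mul_card_conjClasses_le [Finite G] {p : ℕ} [hp : Fact p.Prime] (hG : IsPGroup p G) :
    p * Nat.card (ConjClasses G) ≤ Nat.card G + (p - 1) * Nat.card (Subgroup.center G) := by
  have := card_classes_mul_le_center (Set.univ : Set G) p hp.out.pos fun x _ hx => by
    obtain ⟨n, hn⟩ := hG.index (Subgroup.centralizer ({x} : Set G))
    rw [hn]
    cases n with
    | zero => exact absurd ((index_centralizer_eq_one_iff x).mp (by simpa using hn)) hx
    | succ n => exact Nat.le_self_pow (Nat.succ_ne_zero n) p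
  rw [card_conjClasses_eq_univ, Set.univ_inter, Nat.card_univ] at this
  simpa using this

/-- A non-abelian finite `p`-group has centre of index at least `p²`. -/
theorem sq_le_index_center [Finite G] {p : ℕ} [hp : Fact p.Prime] (hG : IsPGroup p G)
    (hna : ¬ IsMulCommutative G) : p ^ 2 ≤ (Subgroup.center G).index := by
  obtain ⟨n, hn⟩ := hG.index (Subgroup.center G)
  rw [hn]
  refine Nat.pow_le_pow_right hp.out.pos ?_
  by_contra hlt
  apply hna
  have hcyc : IsCyclic (G ⧸ Subgroup.center G) := by
    match n, hn with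
    | 0, hn =>
      haveI : Subsingleton (G ⧸ Subgroup.center G) :=
        (Nat.card_eq_one_iff_unique.mp (by simpa [← Subgroup.index_eq_card] using hn)).1
      infer_instance
    | 1, hn => exact isCyclic_of_prime_card (p := p) (by simpa [← Subgroup.index_eq_card] using hn)
    | n + 2, _ => omega
  exact ⟨⟨commutative_of_cyclic_center_quotient (QuotientGroup.mk' (Subgroup.center G))
    (by rw [QuotientGroup.ker_mk'])⟩⟩

/-- An upper bound of the commuting probability of a non-abelian `p`-group, cleared of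
denominators. -/
theorem cube_mul_card_conjClasses_le [Finite G] {p : ℕ} [hp : Fact p.Prime] (hG : IsPGroup p G)
    (hna : ¬ IsMulCommutative G) :
    p ^ 3 * Nat.card (ConjClasses G) ≤ (p ^ 2 + p - 1) * Nat.card G := by
  have h1 := prime_mul_card_conjClasses_le hG
  have h2 : p ^ 2 * Nat.card (Subgroup.center G) ≤ Nat.card G := by
    rw [← (Subgroup.center G).card_mul_index, mul_comm]
    exact Nat.mul_le_mul_left _ (sq_le_index_center hG hna)
  have hp1 := hp.out.one_le
  calc p ^ 3 * Nat.card (ConjClasses G) = p ^ 2 * (p * Nat.card (ConjClasses G)) := by ring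
    _ ≤ p ^ 2 * (Nat.card G + (p - 1) * Nat.card (Subgroup.center G)) := Nat.mul_le_mul_left _ h1
    _ = p ^ 2 * Nat.card G + (p - 1) * (p ^ 2 * Nat.card (Subgroup.center G)) := by ring
    _ ≤ p ^ 2 * Nat.card G + (p - 1) * Nat.card G :=
        Nat.add_le_add_left (Nat.mul_le_mul_left _ h2) _
    _ = (p ^ 2 + p - 1) * Nat.card G := by
        rw [← add_mul]; congr 1; omega

/-- A Sylow subgroup as a subgroup of its normaliser: the `p`-classes of `G` are covered by the
classes of the normaliser inside it, if the Sylow subgroup is conjugated onto every `p`-element. -/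
theorem card_pClass_le_normalizer [Finite G] {p : ℕ} [Fact p.Prime] (P : Sylow p G) :
    Nat.card (PiClass ({p} : Set ℕ) G) ≤
      Nat.card {c : ConjClasses ↥(Subgroup.normalizer ((P : Subgroup G) : Set G)) //
        c.carrier ⊆ {n | (n : G) ∈ (P : Subgroup G)}} := by
  refine card_piClass_le_of_cover
    (fun c => ConjClasses.map (Subgroup.normalizer ((P : Subgroup G) : Set G)).subtype c.1) ?_
  intro x hx
  obtain ⟨y, hy, hxy⟩ := exists_conj_mem_sylow P hx
  let y' : ↥(Subgroup.normalizer ((P : Subgroup G) : Set G)) := ⟨y, Subgroup.le_normalizer hy⟩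
  refine ⟨⟨ConjClasses.mk y', ?_⟩, ?_⟩
  · intro z hz
    rw [ConjClasses.mem_carrier_iff_mk_eq, ConjClasses.mk_eq_mk_iff_isConj, isConj_comm] at hz
    obtain ⟨c, rfl⟩ := isConj_iff.mp hz
    exact (Subgroup.mem_normalizer_iff.mp c.2 y).mp hy
  · exact ConjClasses.mk_eq_mk_iff_isConj.mpr hxy.symm

/-- If a Sylow `p`-subgroup is not central in its normaliser,
`2p k_p(G) ≤ (p+1)|P|`. -/
theorem pClass_bound_of_not_le_centralizer [Finite G] {p : ℕ} [hp : Fact p.Prime] (P : Sylow p G)
    (h : ¬ Subgroup.normalizer ((P : Subgroup G) : Set G) ≤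
      Subgroup.centralizer ((P : Subgroup G) : Set G)) :
    2 * p * Nat.card (PiClass ({p} : Set ℕ) G) ≤ (p + 1) * Nat.card ↥(P : Subgroup G) := by
  set N := Subgroup.normalizer ((P : Subgroup G) : Set G) with hN
  set S : Set N := {n | (n : G) ∈ (P : Subgroup G)} with hS
  have hk := card_pClass_le_normalizer P
  have hc := card_classes_mul_le_center S 2 two_pos fun x _ hx => by
    have h0 : (Subgroup.centralizer ({x} : Set N)).index ≠ 0 := Subgroup.index_ne_zero_of_finite
    have h1 := mt (index_centralizer_eq_one_iff x).mp hx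
    omega
  have hcardS : Nat.card S = Nat.card ↥(P : Subgroup G) :=
    Nat.card_congr ⟨fun x => ⟨x.1.1, x.2⟩, fun y => ⟨⟨y.1, Subgroup.le_normalizer y.2⟩, y.2⟩,
      fun x => rfl, fun y => rfl⟩
  let Z : Subgroup G := (Subgroup.center N).map N.subtype ⊓ (P : Subgroup G)
  have hZlt : Z < (P : Subgroup G) := by
    refine lt_of_le_of_ne inf_le_right fun heq => h fun n hn => ?_
    rw [Subgroup.mem_centralizer_iff]
    intro y hy
    obtain ⟨y', hy', rfl⟩ := Subgroup.mem_map.mp (inf_le_left (a := (Subgroup.center N).map N.subtype)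
      (heq.ge hy))
    exact (congrArg Subtype.val (Subgroup.mem_center_iff.mp hy' ⟨n, hn⟩)).symm
  have hZcard : Nat.card ↥(S ∩ (Subgroup.center N : Set N)) ≤ Nat.card Z :=
    Nat.card_le_card_of_injective
      (fun x => (⟨x.1.1, Subgroup.mem_map.mpr ⟨x.1, x.2.2, rfl⟩, x.2.1⟩ : Z))
      (fun a b hab => Subtype.ext (Subtype.ext (congrArg Subtype.val hab :)))
  have hZp : p * Nat.card Z ≤ Nat.card ↥(P : Subgroup G) := by
    obtain ⟨d, hd⟩ := Subgroup.card_dvd_of_le hZlt.le
    obtain ⟨n, hn⟩ := IsPGroup.iff_card.mp P.2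
    have hdd : d ∣ p ^ n := hn ▸ hd ▸ Dvd.intro_left _ rfl
    obtain ⟨j, _, rfl⟩ := (Nat.dvd_prime_pow hp.out).mp hdd
    cases j with
    | zero =>
      exact absurd (Subgroup.eq_of_le_of_card_ge hZlt.le (by simpa using hd.le)) hZlt.ne
    | succ j =>
      rw [hd, mul_comm p]
      exact Nat.mul_le_mul_left _ (Nat.le_self_pow (Nat.succ_ne_zero j) p)
  calc 2 * p * Nat.card (PiClass ({p} : Set ℕ) G)
      ≤ 2 * p * Nat.card {c : ConjClasses N // c.carrier ⊆ S} := Nat.mul_le_mul_left _ hk
    _ = p * (2 * Nat.card {c : ConjClasses N // c.carrier ⊆ S}) := by ring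
    _ ≤ p * (Nat.card ↥(P : Subgroup G) + Nat.card Z) := by
        refine Nat.mul_le_mul_left _ (hc.trans ?_)
        rw [hcardS]
        omega
    _ ≤ (p + 1) * Nat.card ↥(P : Subgroup G) := by
        rw [mul_add, add_mul, one_mul]
        exact Nat.add_le_add_left hZp _

/-- The main criterion: many classes of `p`-elements for odd `p`. -/
theorem normalPComplement_and_comm_of_pClass_bound [Finite G] {p : ℕ} [hp : Fact p.Prime]
    (hp2 : p ≠ 2) (P : Sylow p G)
    (hk : (p + 1) * Nat.card ↥(P : Subgroup G) < 2 * p * Nat.card (PiClass ({p} : Set ℕ) G)) :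
    Cfsg.HasNormalPComplement p G ∧ IsMulCommutative ↥(P : Subgroup G) := by
  have hcomm : IsMulCommutative ↥(P : Subgroup G) := by
    by_contra hna
    have h1 := cube_mul_card_conjClasses_le P.2 hna
    have h2 := card_pClass_le_sylow P
    have hp3 : 3 ≤ p := by have := hp.out.two_le; omega
    have hlt : p ^ 2 * ((p + 1) * Nat.card ↥(P : Subgroup G)) <
        p ^ 2 * (2 * p * Nat.card (PiClass ({p} : Set ℕ) G)) :=
      Nat.mul_lt_mul_of_pos_left hk (pow_pos hp.out.pos 2)
    have h4 : p ^ 2 * (2 * p * Nat.card (PiClass ({p} : Set ℕ) G)) ≤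
        2 * ((p ^ 2 + p - 1) * Nat.card ↥(P : Subgroup G)) := by
      calc p ^ 2 * (2 * p * Nat.card (PiClass ({p} : Set ℕ) G))
          = 2 * (p ^ 3 * Nat.card (PiClass ({p} : Set ℕ) G)) := by ring
        _ ≤ 2 * (p ^ 3 * Nat.card (ConjClasses ↥(P : Subgroup G))) := by gcongr
        _ ≤ _ := Nat.mul_le_mul_left _ h1
    have h5 : 2 * (p ^ 2 + p - 1) ≤ p ^ 2 * (p + 1) := by
      have h6 : 2 * (p ^ 2 + p) ≤ p ^ 2 * (p + 1) := by nlinarith
      omega
    have h7 := hlt.trans_le h4
    rw [← mul_assoc, ← mul_assoc] at h7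
    exact absurd (Nat.lt_of_mul_lt_mul_right h7) (not_lt.mpr h5)
  refine ⟨?_, hcomm⟩
  have hle : Subgroup.normalizer ((P : Subgroup G) : Set G) ≤
      Subgroup.centralizer ((P : Subgroup G) : Set G) := by
    by_contra hnot
    exact absurd (pClass_bound_of_not_le_centralizer P hnot) (not_le.mpr hk)
  exact ⟨P, _, MonoidHom.normal_ker _, MonoidHom.ker_transferSylow_isComplement' P hle⟩

/-- With a normal `p`-complement, `k_p(G) = k(P)`; the lower bound. -/
theorem card_sylow_classes_le [Finite G] {p : ℕ} [Fact p.Prime]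
    (h : Cfsg.HasNormalPComplement p G) (P : Sylow p G) :
    Nat.card (ConjClasses ↥(P : Subgroup G)) ≤ Nat.card (PiClass ({p} : Set ℕ) G) := by
  obtain ⟨P₀, N, hN, hc⟩ := h
  haveI := hN
  let f : ↥(P : Subgroup G) →* G ⧸ N := (QuotientGroup.mk' N).comp (P : Subgroup G).subtype
  have hinj : Function.Injective (ConjClasses.map ((P : Subgroup G).subtype)) := by
    intro a b hab
    obtain ⟨x, rfl⟩ := ConjClasses.mk_surjective a
    obtain ⟨y, rfl⟩ := ConjClasses.mk_surjective b
    have hconj : IsConj (x : G) (y : G) := ConjClasses.mk_eq_mk_iff_isConj.mp hab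
    have hfi : Function.Bijective f := by
      refine (Nat.bijective_iff_injective_and_card f).mpr ⟨?_, ?_⟩
      · rw [injective_iff_map_eq_one]
        intro z hz
        have hzN : (z : G) ∈ N := (QuotientGroup.eq_one_iff _).mp hz
        have hcop : (orderOf (z : G)).Coprime (Nat.card N) := by
          obtain ⟨k, hk⟩ := P.2 z
          have hd : orderOf (z : G) ∣ p ^ k := by
            rw [Subgroup.orderOf_coe]; exact orderOf_dvd_of_pow_eq_one hk
          refine Nat.Coprime.coprime_dvd_left hd (Nat.Coprime.pow_left _ ?_)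
          refine (Fact.out : p.Prime).coprime_iff_not_dvd.mpr ?_
          rw [← hc.index_eq_card]
          exact P₀.not_dvd_index
        have h1 : orderOf (z : G) = 1 := Nat.eq_one_of_dvd_coprimes hcop dvd_rfl
          (Subgroup.orderOf_dvd_natCard N hzN)
        exact Subtype.ext (orderOf_eq_one_iff.mp h1)
      · rw [← Subgroup.index_eq_card, hc.symm.index_eq_card, P.card_eq_multiplicity,
          P₀.card_eq_multiplicity]
    obtain ⟨w, hw⟩ := isConj_iff.mp (MonoidHom.map_isConj (QuotientGroup.mk' N) hconj)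
    obtain ⟨v, rfl⟩ := hfi.2 w
    apply ConjClasses.mk_eq_mk_iff_isConj.mpr
    refine isConj_iff.mpr ⟨v, hfi.1 ?_⟩
    rw [map_mul, map_mul, map_inv]
    exact hw
  refine Nat.card_le_card_of_injective (fun c => (⟨ConjClasses.map ((P : Subgroup G).subtype) c,
    ?_⟩ : PiClass ({p} : Set ℕ) G)) (fun a b hab => hinj (congrArg Subtype.val hab))
  obtain ⟨x, rfl⟩ := ConjClasses.mk_surjective c
  refine (mk_piElt_iff (x : G)).mpr ((isPiElt_singleton_iff _).mpr ?_)
  obtain ⟨k, hk⟩ := IsPGroup.iff_orderOf.mp P.2 x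
  exact ⟨k, by rw [Subgroup.orderOf_coe]; exact hk⟩

end Cfsg.Agent.Lib.PiClasses
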