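import Mathlib
import Cfsg.Prelude.Def_Transfer
import Cfsg.Prelude.Def_OddOrderLocal

/-!
A normal `π`-complement from normal `r`-complements for every `r` in `π`.
-/

set_option autoImplicit false

universe u

open scoped commutatorElement

namespace Cfsg.Agent.Lib.PiClasses

variable {G : Type u} [Group G]

theorem exists_normal_piComplement [Finite G] (π : Finset ℕ) (hπ : ∀ r ∈ π, r.Prime)
    (h : ∀ r ∈ π, Cfsg.HasNormalPComplement r G) :
    ∃ N : Subgroup G, N.Normal ∧ (∀ r : ℕ, r.Prime → r ∣ Nat.card ↥N → r ∉ π) ∧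
      (∀ r : ℕ, r.Prime → r ∣ N.index → r ∈ π) ∧
      ∀ M : Subgroup G, (∀ r ∈ π, ∀ K : Subgroup G, K.Normal →
        (∃ P : Sylow r G, K.IsComplement' (P : Subgroup G)) → M ≤ K) → M ≤ N := by
  induction π using Finset.induction with
  | empty =>
    exact ⟨⊤, inferInstance, fun r _ _ hr => by simp at hr, fun r hr h1 => by
      rw [Subgroup.index_top] at h1; exact absurd (Nat.le_of_dvd one_pos h1) (not_le.mpr hr.one_lt),
      fun M _ => le_top⟩
  | insert p π hp ih =>
    haveI : Fact p.Prime := ⟨hπ p (Finset.mem_insert_self p π)⟩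
    obtain ⟨A, hA, hA1, hA2, hA3⟩ := ih (fun r hr => hπ r (Finset.mem_insert_of_mem hr))
      (fun r hr => h r (Finset.mem_insert_of_mem hr))
    obtain ⟨P, K, hK, hKP⟩ := h p (Finset.mem_insert_self p π)
    haveI := hK
    haveI := hA
    refine ⟨A ⊓ K, inferInstance, ?_, ?_, ?_⟩
    · intro r hr hd hmem
      rcases Finset.mem_insert.mp hmem with rfl | hmem
      · refine P.not_dvd_index ?_
        rw [hKP.index_eq_card]
        exact hd.trans (Subgroup.card_dvd_of_le inf_le_right)
      · exact hA1 r hr (hd.trans (Subgroup.card_dvd_of_le inf_le_left)) hmem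
    · intro r hr hd
      rw [← Subgroup.relIndex_mul_index (inf_le_left : A ⊓ K ≤ A), inf_comm,
        Subgroup.inf_relIndex_right] at hd
      rcases hr.dvd_mul.mp hd with hd | hd
      · have h1 := hd.trans (Subgroup.relIndex_dvd_index_of_normal K A)
        rw [hKP.symm.index_eq_card] at h1
        obtain ⟨n, hn⟩ := IsPGroup.iff_card.mp P.2
        rw [hn] at h1
        exact Finset.mem_insert.mpr (Or.inl ((Nat.prime_dvd_prime_iff_eq hr Fact.out).mp
          (hr.dvd_of_dvd_pow h1)))
      · exact Finset.mem_insert_of_mem (hA2 r hr hd)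
    · intro M hM
      exact le_inf (hA3 M fun r hr => hM r (Finset.mem_insert_of_mem hr))
        (hM p (Finset.mem_insert_self p π) K hK ⟨P, hKP⟩)

/-- A group with abelian Sylow subgroups and normal complements at all primes of `π` has an
abelian Hall `π`-subgroup. -/
theorem exists_abelian_piHall [Finite G] (π : Finset ℕ) (hπ : ∀ r ∈ π, r.Prime)
    (h : ∀ r ∈ π, Cfsg.HasNormalPComplement r G)
    (hab : ∀ r ∈ π, ∀ P : Sylow r G, IsMulCommutative ↥(P : Subgroup G)) :
    ∃ H : Subgroup G, Cfsg.IsPiHall (↑π : Set ℕ) H ∧ IsMulCommutative ↥H := by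
  obtain ⟨N, hN, hN1, hN2, hN3⟩ := exists_normal_piComplement π hπ h
  haveI := hN
  have hcop : (Nat.card N).Coprime N.index :=
    Nat.coprime_of_dvd fun r hr h1 h2 => hN1 r hr h1 (hN2 r hr h2)
  obtain ⟨H, hH⟩ := Subgroup.exists_right_complement'_of_coprime hcop
  refine ⟨H, ⟨fun r hr hd => ?_, fun r hr hrπ hd => ?_⟩, ?_⟩
  · rw [← hH.symm.index_eq_card] at hd
    exact hN2 r hr hd
  · rw [hH.index_eq_card] at hd
    exact hN1 r hr hd hrπ
  · have hcomm : ⁅(⊤ : Subgroup G), ⊤⁆ ≤ N := by
      refine hN3 _ fun r hr K hK ⟨P, hKP⟩ => ?_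
      haveI := hK
      haveI := hab r hr P
      rw [Subgroup.commutator_le]
      intro a _ b _
      have hq : ∀ u v : G ⧸ K, u * v = v * u := fun u v => by
        apply hKP.symm.QuotientMulEquiv.injective
        rw [map_mul, map_mul]
        exact (hab r hr P).is_comm.comm _ _
      rw [← QuotientGroup.eq_one_iff, ← QuotientGroup.mk'_apply, map_commutatorElement,
        commutatorElement_eq_one_iff_mul_comm]
      exact hq _ _
    refine ⟨⟨fun a b => ?_⟩⟩
    have h1 : ⁅(a : G), (b : G)⁆ ∈ N :=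
      hcomm (Subgroup.commutator_mem_commutator (Subgroup.mem_top _) (Subgroup.mem_top _))
    have h2 : ⁅(a : G), (b : G)⁆ ∈ H := by
      rw [commutatorElement_def]
      exact H.mul_mem (H.mul_mem (H.mul_mem a.2 b.2) (H.inv_mem a.2)) (H.inv_mem b.2)
    have h3 : ⁅(a : G), (b : G)⁆ = 1 := Subgroup.disjoint_def.mp hH.disjoint h1 h2
    exact Subtype.ext (commutatorElement_eq_one_iff_mul_comm.mp h3)

end Cfsg.Agent.Lib.PiClasses
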