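import Cfsg.Agent.Lib.PiClasses.Bounds
import Cfsg.Agent.Lib.Transfer.Criteria

/-!
Finite groups whose number of classes of 2-elements exceeds half the order of a Sylow 2-subgroup
have a normal 2-complement.
-/

set_option autoImplicit false

universe u

namespace Cfsg.Agent.Lib.PiClasses

open scoped commutatorElement

variable {G : Type u} [Group G]

/-- The commutator of a product, when all commutators are central. -/
theorem commutator_mul_of_central (hcen : ∀ x y : G, ⁅x, y⁆ ∈ Subgroup.center G) (u v g : G) :
    ⁅u * v, g⁆ = ⁅u, g⁆ * ⁅v, g⁆ := by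
  have h := Subgroup.mem_center_iff.mp (hcen v g) u
  calc ⁅u * v, g⁆ = u * ⁅v, g⁆ * g * u⁻¹ * g⁻¹ := by simp only [commutatorElement_def]; group
    _ = ⁅v, g⁆ * ⁅u, g⁆ := by rw [h]; simp only [commutatorElement_def]; group
    _ = _ := (Subgroup.mem_center_iff.mp (hcen v g) _).symm

/-- A 2-group with more classes than half its order has derived subgroup of order at most two. -/
theorem exists_commutator_subsingleton [Finite G] (hG : IsPGroup 2 G)
    (hk : Nat.card G < 2 * Nat.card (ConjClasses G)) :
    ∃ c : G, c ∈ Subgroup.center G ∧ c * c = 1 ∧ ∀ x y : G, ⁅x, y⁆ = 1 ∨ ⁅x, y⁆ = c := by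
  classical
  by_cases hna : IsMulCommutative G
  · exact ⟨1, one_mem _, one_mul 1, fun x y => Or.inl
      (commutatorElement_eq_one_iff_mul_comm.mpr (hna.is_comm.comm x y))⟩
  haveI : Fintype G := Fintype.ofFinite G
  let A : Set G := {x | (Subgroup.centralizer ({x} : Set G)).index ≤ 2}
  have hcenA : ∀ z ∈ Subgroup.center G, z ∈ A := fun z hz => by
    show (Subgroup.centralizer ({z} : Set G)).index ≤ 2
    rw [(index_centralizer_eq_one_iff z).mpr hz]; norm_num
  have hbig : Nat.card G < Nat.card A + 2 * Nat.card (Subgroup.center G) := by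
    have h1 := card_classes_mul_le (Set.univ : Set G) 4
      (fun x => (if x ∈ Subgroup.center G then 1 else 0) + (if x ∈ A then 2 else 0)) ?_ ?_
    rotate_left
    · intro x _
      obtain ⟨n, hn⟩ := hG.index (Subgroup.centralizer ({x} : Set G))
      by_cases hxz : x ∈ Subgroup.center G
      · rw [if_pos hxz, if_pos (hcenA x hxz), (index_centralizer_eq_one_iff x).mpr hxz]
      · have h1 := mt (index_centralizer_eq_one_iff x).mp hxz
        by_cases hxA : x ∈ A
        · rw [if_neg hxz, if_pos hxA, hn]
          rcases n with _ | n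
          · simp [hn] at h1
          · calc 4 = 2 ^ 1 + (0 + 2) := by norm_num
              _ ≤ _ := Nat.add_le_add_right (Nat.pow_le_pow_right two_pos (by omega)) _
        · have h2 : ¬ (Subgroup.centralizer ({x} : Set G)).index ≤ 2 := hxA
          rw [hn] at h2
          refine le_trans ?_ (Nat.le_add_right _ _)
          rw [hn]
          rcases n with _ | _ | n
          · simp at h2
          · simp at h2
          · calc 4 = 2 ^ 2 := by norm_num
              _ ≤ _ := Nat.pow_le_pow_right two_pos (by omega)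
    · intro x y hxy
      have hidx : (Subgroup.centralizer ({x} : Set G)).index =
          (Subgroup.centralizer ({y} : Set G)).index := by
        rw [← card_carrier_mk, ← card_carrier_mk, ConjClasses.mk_eq_mk_iff_isConj.mpr hxy]
      have hz : x ∈ Subgroup.center G ↔ y ∈ Subgroup.center G := by
        rw [← index_centralizer_eq_one_iff, ← index_centralizer_eq_one_iff, hidx]
      simp only [hz, show x ∈ A ↔ y ∈ A by simp [A, hidx]]
    rw [card_conjClasses_eq_univ, Nat.card_univ] at h1
    -- sum the weights
    haveI : Fintype {c : ConjClasses G // c.carrier ⊆ (Set.univ : Set G)} := Fintype.ofFinite _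
    rw [finsum_eq_sum_of_fintype, Finset.sum_add_distrib] at h1
    have hw1 : ∑ c : {c : ConjClasses G // c.carrier ⊆ (Set.univ : Set G)},
        (if Quotient.out c.1 ∈ Subgroup.center G then 1 else 0) ≤ Nat.card (Subgroup.center G) := by
      rw [Finset.sum_boole, Nat.cast_id, ← Nat.card_eq_finsetCard]
      refine Nat.card_le_card_of_injective
        (fun c => (⟨Quotient.out c.1.1, (Finset.mem_filter.mp c.2).2⟩ : Subgroup.center G)) ?_
      intro a b hab
      exact Subtype.ext (Subtype.ext (Quotient.out_inj.mp (congrArg Subtype.val hab)))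
    have hw2 : ∑ c : {c : ConjClasses G // c.carrier ⊆ (Set.univ : Set G)},
        (if Quotient.out c.1 ∈ A then 2 else 0) ≤ Nat.card A + Nat.card (Subgroup.center G) := by
      have h2 := card_classes_mul_le_center A 2 two_pos fun x _ hx => by
        have h0 : (Subgroup.centralizer ({x} : Set G)).index ≠ 0 := Subgroup.index_ne_zero_of_finite
        have h3 := mt (index_centralizer_eq_one_iff x).mp hx
        omega
      have h3 : Nat.card ↥(A ∩ (Subgroup.center G : Set G)) ≤ Nat.card (Subgroup.center G) :=
        Nat.card_le_card_of_injective (fun a => (⟨a.1, a.2.2⟩ : Subgroup.center G))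
          fun a b hab => Subtype.ext (congrArg Subtype.val hab :)
      rw [← Finset.sum_filter, Finset.sum_const, smul_eq_mul, mul_comm]
      refine le_trans ?_ (h2.trans (by omega))
      refine Nat.mul_le_mul_left _ ?_
      rw [← Nat.card_eq_finsetCard]
      refine Nat.card_le_card_of_injective
        (fun c => (⟨c.1.1, fun y hy => ?_⟩ : {c : ConjClasses G // c.carrier ⊆ A})) ?_
      · show (Subgroup.centralizer ({y} : Set G)).index ≤ 2
        have hout : ConjClasses.mk (Quotient.out c.1.1) = c.1.1 := Quotient.out_eq c.1.1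
        rw [← card_carrier_mk, ConjClasses.mem_carrier_iff_mk_eq.mp hy, ← hout, card_carrier_mk]
        exact (Finset.mem_filter.mp c.2).2
      · intro a b hab
        exact Subtype.ext (Subtype.ext (congrArg Subtype.val hab :))
    omega
  -- the small classes generate
  have hZ4 : 4 * Nat.card (Subgroup.center G) ≤ Nat.card G := by
    rw [← (Subgroup.center G).card_mul_index, mul_comm 4]
    exact Nat.mul_le_mul_left _ (by simpa using sq_le_index_center hG hna)
  have hgen : ∀ K : Subgroup G, A ⊆ K → K = ⊤ := by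
    intro K hK
    rw [← Subgroup.index_eq_one]
    have h1 : Nat.card A ≤ Nat.card K :=
      Nat.card_le_card_of_injective (fun a => (⟨a.1, hK a.2⟩ : K))
        fun a b hab => Subtype.ext (congrArg Subtype.val hab :)
    have h2 : Nat.card G < 2 * Nat.card K := by omega
    have h3 : K.index ≠ 0 := Subgroup.index_ne_zero_of_finite
    rcases Nat.lt_or_ge K.index 2 with h | h
    · omega
    · have := K.card_mul_index
      nlinarith
  -- squares are central
  have hsq : ∀ g : G, g * g ∈ Subgroup.center G := by
    intro g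
    rw [Subgroup.mem_center_iff]
    have htop := hgen (Subgroup.centralizer ({g * g} : Set G)) fun x hx => by
      rw [SetLike.mem_coe, Subgroup.mem_centralizer_singleton_iff]
      have hle : (Subgroup.centralizer ({x} : Set G)).index ≤ 2 := hx
      have h0 : (Subgroup.centralizer ({x} : Set G)).index ≠ 0 := Subgroup.index_ne_zero_of_finite
      have hmem : g * g ∈ Subgroup.centralizer ({x} : Set G) := by
        rcases Nat.lt_or_ge (Subgroup.centralizer ({x} : Set G)).index 2 with h | h
        · have : (Subgroup.centralizer ({x} : Set G)).index = 1 := by omega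
          rw [Subgroup.index_eq_one.mp this]; exact Subgroup.mem_top _
        · exact Subgroup.mul_self_mem_of_index_two (by omega) g
      exact (Subgroup.mem_centralizer_singleton_iff.mp hmem).symm
    intro y
    exact Subgroup.mem_centralizer_singleton_iff.mp (htop ▸ Subgroup.mem_top y :
      y ∈ Subgroup.centralizer ({g * g} : Set G))
  have hcen : ∀ x y : G, ⁅x, y⁆ ∈ Subgroup.center G := by
    intro x y
    rw [← QuotientGroup.eq_one_iff, ← QuotientGroup.mk'_apply, map_commutatorElement,
      commutatorElement_eq_one_iff_mul_comm]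
    have h2 : ∀ q : G ⧸ Subgroup.center G, q * q = 1 := fun q => by
      obtain ⟨g, rfl⟩ := QuotientGroup.mk'_surjective _ q
      rw [← map_mul]
      exact (QuotientGroup.eq_one_iff _).mpr (hsq g)
    set a := QuotientGroup.mk' (Subgroup.center G) x
    set b := QuotientGroup.mk' (Subgroup.center G) y
    calc a * b = (a * b) * ((b * a) * (b * a)) := by rw [h2, mul_one]
      _ = a * (b * b) * a * (b * a) := by group
      _ = b * a := by rw [h2, mul_one, h2, one_mul]
  have hmul := commutator_mul_of_central hcen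
  have hone : ∀ g : G, ⁅(1 : G), g⁆ = 1 := fun g => by simp
  -- the commutator value of an element with two conjugates
  have hval : ∀ u ∈ A, ∀ g h : G, ⁅u, g⁆ ≠ 1 → ⁅u, h⁆ ≠ 1 → ⁅u, g⁆ = ⁅u, h⁆ := by
    intro u hu g h hg hh
    by_contra hne
    have hle : (Subgroup.centralizer ({u} : Set G)).index ≤ 2 := hu
    rw [← card_carrier_mk] at hle
    have hmem : ∀ g : G, (⁅u, g⁆)⁻¹ * u ∈ (ConjClasses.mk u).carrier := fun g => by
      rw [ConjClasses.mem_carrier_iff_mk_eq, ConjClasses.mk_eq_mk_iff_isConj, isConj_comm]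
      exact isConj_iff.mpr ⟨g, by simp [commutatorElement_def, mul_assoc]⟩
    let F : Fin 3 → (ConjClasses.mk u).carrier :=
      ![⟨u, ConjClasses.mem_carrier_mk⟩, ⟨_, hmem g⟩, ⟨_, hmem h⟩]
    have e1 : ⁅g, u⁆ ≠ 1 := fun e => hg (by rw [← commutatorElement_inv, e, inv_one])
    have e2 : ⁅h, u⁆ ≠ 1 := fun e => hh (by rw [← commutatorElement_inv, e, inv_one])
    have e3 : ⁅g, u⁆ ≠ ⁅h, u⁆ := fun e => hne (by
      rw [← commutatorElement_inv g u, e, commutatorElement_inv])
    have hF : Function.Injective F := by
      intro i j hij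
      have hij' : (F i : G) = F j := congrArg Subtype.val hij
      fin_cases i <;> fin_cases j <;>
        simp_all [F, eq_comm (a := u), e3.symm, mul_eq_right, inv_eq_one]
    have h3 := Nat.card_le_card_of_injective F hF
    simp at h3
    rw [Nat.card_coe_set_eq] at hle
    omega
  obtain ⟨u₀, hu₀A, hu₀⟩ : ∃ u ∈ A, u ∉ Subgroup.center G := by
    by_contra hcon
    push Not at hcon
    have htop := hgen (Subgroup.center G) hcon
    exact hna ⟨⟨fun x y => (Subgroup.mem_center_iff.mp (htop ▸ Subgroup.mem_top y :
      y ∈ Subgroup.center G) x)⟩⟩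
  obtain ⟨g₀, hg₀⟩ : ∃ g : G, ⁅u₀, g⁆ ≠ 1 := by
    by_contra hcon
    push Not at hcon
    exact hu₀ (Subgroup.mem_center_iff.mpr fun g =>
      (commutatorElement_eq_one_iff_mul_comm.mp (hcon g)).symm)
  refine ⟨⁅u₀, g₀⁆, hcen _ _, ?_, ?_⟩
  · rw [← hmul]
    exact commutatorElement_eq_one_iff_mul_comm.mpr
      (Subgroup.mem_center_iff.mp (hsq u₀) g₀).symm
  · have hsame : ∀ v ∈ A, ∀ g : G, ⁅v, g⁆ = 1 ∨ ⁅v, g⁆ = ⁅u₀, g₀⁆ := by
      intro v hv g
      by_contra hcon
      rw [not_or] at hcon
      obtain ⟨hvg, hne⟩ := hcon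
      have huv : ⁅u₀, v⁆ = 1 := by
        by_contra h1
        have h2 : ⁅v, u₀⁆ ≠ 1 := fun h => h1 (by rw [← commutatorElement_inv, h, inv_one])
        have h3 : ⁅v, u₀⁆ * ⁅v, u₀⁆ = 1 := by
          rw [← hmul]
          exact commutatorElement_eq_one_iff_mul_comm.mpr
            (Subgroup.mem_center_iff.mp (hsq v) u₀).symm
        have h4 : ⁅u₀, v⁆ = ⁅v, u₀⁆ := by
          rw [← commutatorElement_inv v u₀]; exact inv_eq_of_mul_eq_one_right h3
        exact hne (((hval u₀ hu₀A g₀ v hg₀ h1).trans h4).trans (hval v hv u₀ g h2 hvg)).symm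
      obtain ⟨w, hwu, hwv⟩ : ∃ w : G, ⁅u₀, w⁆ ≠ 1 ∧ ⁅v, w⁆ ≠ 1 := by
        by_cases h1 : ⁅v, g₀⁆ = 1
        · by_cases h2 : ⁅u₀, g⁆ = 1
          · refine ⟨g₀ * g, ?_, ?_⟩
            · rw [← commutatorElement_inv, hmul, mul_inv_rev, commutatorElement_inv,
                commutatorElement_inv, h2, one_mul]
              exact hg₀
            · rw [← commutatorElement_inv, hmul, mul_inv_rev, commutatorElement_inv,
                commutatorElement_inv, h1, mul_one]
              exact hvg
          · exact ⟨g, h2, hvg⟩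
        · exact ⟨g₀, hg₀, h1⟩
      have ha := hval u₀ hu₀A w g₀ hwu hg₀
      have hb := hval v hv w g hwv hvg
      have hab : ⁅w, u₀⁆ ≠ ⁅w, v⁆ := by
        rw [← commutatorElement_inv u₀, ← commutatorElement_inv v, ha, hb]
        exact fun h => hne (inv_injective h).symm
      -- two exceptional elements in different cosets of the centre
      have hex : ∀ x : G, ⁅x, u₀⁆ = ⁅w, u₀⁆ → ⁅x, v⁆ = ⁅w, v⁆ → x ∉ A := by
        intro x hx1 hx2 hxA
        refine hab ?_
        rw [← hx1, ← hx2]
        refine hval x hxA u₀ v ?_ ?_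
        · rw [hx1]; exact fun h => hwu (by rw [← commutatorElement_inv, h, inv_one])
        · rw [hx2]; exact fun h => hwv (by rw [← commutatorElement_inv, h, inv_one])
      have hw1 : w ∉ A := hex w rfl rfl
      have hw2 : w * u₀ ∉ A := hex _ (by rw [hmul, commutatorElement_self, mul_one])
        (by rw [hmul, huv, mul_one])
      -- the complement of `A` contains the two cosets of the centre
      have hcos : ∀ x : G, x ∉ A → ∀ z ∈ Subgroup.center G, x * z ∉ A := by
        intro x hx z hz hxz
        refine hx ?_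
        show (Subgroup.centralizer ({x} : Set G)).index ≤ 2
        have heq : Subgroup.centralizer ({x * z} : Set G) = Subgroup.centralizer ({x} : Set G) := by
          ext y
          simp only [Subgroup.mem_centralizer_singleton_iff]
          have hzy := Subgroup.mem_center_iff.mp hz
          constructor
          · intro h
            rw [← mul_assoc, mul_assoc x z y, ← hzy y, ← mul_assoc] at h
            exact mul_right_cancel h
          · intro h
            rw [← mul_assoc, h, mul_assoc x y z, hzy y, ← mul_assoc]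
        rw [← heq]; exact hxz
      let f : Bool × Subgroup.center G → ↥(Aᶜ) := fun t =>
        cond t.1 ⟨w * t.2.1, hcos w hw1 _ t.2.2⟩ ⟨w * u₀ * t.2.1, hcos _ hw2 _ t.2.2⟩
      have hfinj : Function.Injective f := by
        rintro ⟨i, a, ha'⟩ ⟨j, b, hb'⟩ hij
        have hij' : ((f (i, ⟨a, ha'⟩)) : G) = f (j, ⟨b, hb'⟩) := congrArg Subtype.val hij
        have hnc : ∀ r s : G, r ∈ Subgroup.center G → s ∈ Subgroup.center G → w * r ≠ w * u₀ * s := by
          intro r s hr hs h
          rw [mul_assoc] at h
          exact hu₀ (by rw [show u₀ = r * s⁻¹ by rw [mul_left_cancel h]; group]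
                        exact mul_mem hr (inv_mem hs))
        cases i <;> cases j <;> simp only [f, cond_true, cond_false] at hij'
        · simp [mul_left_cancel hij']
        · exact absurd hij'.symm (hnc _ _ hb' ha')
        · exact absurd hij' (hnc _ _ ha' hb')
        · simp [mul_left_cancel hij']
      have h5 := Nat.card_le_card_of_injective f hfinj
      rw [Nat.card_prod, Nat.card_eq_fintype_card (α := Bool), Fintype.card_bool] at h5
      have h6 : Nat.card A + Nat.card ↥(Aᶜ) = Nat.card G := by
        rw [Nat.card_coe_set_eq, Nat.card_coe_set_eq, Set.ncard_add_ncard_compl]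
      omega
    intro x y
    let K : Subgroup G :=
      { carrier := {x | ∀ y, ⁅x, y⁆ = 1 ∨ ⁅x, y⁆ = ⁅u₀, g₀⁆}
        one_mem' := fun y => Or.inl (hone y)
        mul_mem' := fun {a b} ha hb y => by
          have hc2 : ⁅u₀, g₀⁆ * ⁅u₀, g₀⁆ = 1 := by
            rw [← hmul]
            exact commutatorElement_eq_one_iff_mul_comm.mpr
              (Subgroup.mem_center_iff.mp (hsq u₀) g₀).symm
          rw [hmul]
          rcases ha y with h | h <;> rcases hb y with h' | h' <;> rw [h, h'] <;> simp [hc2]
        inv_mem' := fun {a} ha y => by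
          have h1 : ⁅a⁻¹, y⁆ = (⁅a, y⁆)⁻¹ := by
            rw [eq_inv_iff_mul_eq_one, ← hmul, inv_mul_cancel, hone]
          have hc2 : ⁅u₀, g₀⁆ * ⁅u₀, g₀⁆ = 1 := by
            rw [← hmul]
            exact commutatorElement_eq_one_iff_mul_comm.mpr
              (Subgroup.mem_center_iff.mp (hsq u₀) g₀).symm
          rw [h1]
          rcases ha y with h | h <;> rw [h]
          · exact Or.inl inv_one
          · exact Or.inr (inv_eq_of_mul_eq_one_right hc2) }
    exact (hgen K hsame ▸ Subgroup.mem_top x : x ∈ K) y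

/-- Merging three classes at a time. -/
theorem three_mul_card_pClass_le [Finite G] (P : Sylow 2 G) (S : Set ↥(P : Subgroup G))
    (hS : ∀ x ∈ S, ∀ y, IsConj x y → y ∈ S) (m : G)
    (hm : ∀ x ∈ S, ∃ y ∈ S, (y : G) = m * x * m⁻¹ ∧ ¬ IsConj x y ∧
      ∀ z : ↥(P : Subgroup G), (z : G) = m * y * m⁻¹ → ¬ IsConj x z) :
    3 * Nat.card (PiClass ({2} : Set ℕ) G) +
      2 * Nat.card {c : ConjClasses ↥(P : Subgroup G) // c.carrier ⊆ S} ≤
      3 * Nat.card (ConjClasses ↥(P : Subgroup G)) := by
  classical
  haveI : Fintype (ConjClasses ↥(P : Subgroup G)) := Fintype.ofFinite _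
  let f : ConjClasses ↥(P : Subgroup G) → ConjClasses G := ConjClasses.map (P : Subgroup G).subtype
  let Ω : Finset (ConjClasses ↥(P : Subgroup G)) := Finset.univ.filter fun c => c.carrier ⊆ S
  have hΩ : Nat.card {c : ConjClasses ↥(P : Subgroup G) // c.carrier ⊆ S} = Ω.card := by
    rw [Nat.card_eq_fintype_card, Fintype.card_subtype]
  have h1 : Nat.card (PiClass ({2} : Set ℕ) G) ≤ (Finset.univ.image f).card := by
    rw [← Nat.card_eq_finsetCard]
    exact card_piClass_le_of_cover (fun t : ↥(Finset.univ.image f) => t.1) fun x hx => by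
      obtain ⟨y, hy, hxy⟩ := exists_conj_mem_sylow P hx
      exact ⟨⟨ConjClasses.mk x, Finset.mem_image.mpr ⟨ConjClasses.mk ⟨y, hy⟩, Finset.mem_univ _,
        ConjClasses.mk_eq_mk_iff_isConj.mpr hxy.symm⟩⟩, rfl⟩
  have h2 : (Finset.univ.image f).card ≤ (Ωᶜ).card + (Ω.image f).card := by
    rw [← Finset.union_compl Ω, Finset.image_union]
    refine (Finset.card_union_le _ _).trans ?_
    rw [add_comm]
    exact Nat.add_le_add_right Finset.card_image_le _
  have h3 : 3 * (Ω.image f).card ≤ Ω.card := by
    refine Finset.mul_card_image_le_card Ω 3 fun d hd => ?_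
    obtain ⟨c, hc, rfl⟩ := Finset.mem_image.mp hd
    obtain ⟨x, rfl⟩ := ConjClasses.mk_surjective c
    have hxS : x ∈ S := (Finset.mem_filter.mp hc).2 ConjClasses.mem_carrier_mk
    obtain ⟨y, hyS, hy, hxy, hxz⟩ := hm x hxS
    obtain ⟨z, hzS, hz, hyz, -⟩ := hm y hyS
    have hsub : ∀ w ∈ S, ConjClasses.mk w ∈ Ω := fun w hw =>
      Finset.mem_filter.mpr ⟨Finset.mem_univ _, fun v hv => hS w hw v
        (ConjClasses.mk_eq_mk_iff_isConj.mp (ConjClasses.mem_carrier_iff_mk_eq.mp hv).symm)⟩
    have hfy : f (ConjClasses.mk y) = f (ConjClasses.mk x) :=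
      ConjClasses.mk_eq_mk_iff_isConj.mpr (isConj_iff.mpr ⟨m, hy.symm⟩ :
        IsConj (x : G) (y : G)).symm
    have hfz : f (ConjClasses.mk z) = f (ConjClasses.mk x) :=
      (ConjClasses.mk_eq_mk_iff_isConj.mpr (isConj_iff.mpr ⟨m, hz.symm⟩ :
        IsConj (y : G) (z : G)).symm).trans hfy
    refine le_trans (le_of_eq ?_) (Finset.card_le_card (s := {ConjClasses.mk x, ConjClasses.mk y,
      ConjClasses.mk z}) ?_)
    · symm
      rw [Finset.card_eq_three]
      exact ⟨_, _, _, mt ConjClasses.mk_eq_mk_iff_isConj.mp hxy,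
        mt ConjClasses.mk_eq_mk_iff_isConj.mp (hxz z hz),
        mt ConjClasses.mk_eq_mk_iff_isConj.mp hyz, rfl⟩
    · intro w hw
      simp only [Finset.mem_insert, Finset.mem_singleton] at hw
      rcases hw with rfl | rfl | rfl <;>
        exact Finset.mem_filter.mpr ⟨hsub _ ‹_›, by first | rfl | exact hfy | exact hfz⟩
  have h4 : Ω.card + (Ωᶜ).card = Nat.card (ConjClasses ↥(P : Subgroup G)) := by
    rw [Finset.card_add_card_compl, Nat.card_eq_fintype_card]
  omega

/-- An element of odd order fixing `c` moves no class of a moved element to itself. -/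
theorem not_isConj_of_odd {P : Subgroup G} {c : ↥P}
    (hcomm : ∀ x y : ↥P, ⁅x, y⁆ = 1 ∨ ⁅x, y⁆ = c) {m : G} (hodd : Odd (orderOf m))
    (hc2 : c * c = 1) (hmc : m * c * m⁻¹ = (c : G)) {x y : ↥P} (hy : (y : G) = m * x * m⁻¹)
    (hx : m * (x : G) * m⁻¹ ≠ x) :
    ¬ IsConj x y ∧ ∀ z : ↥P, (z : G) = m * y * m⁻¹ → ¬ IsConj x z := by
  obtain ⟨j, hj⟩ := hodd
  have hpow : (MulAut.conj m) ^ (2 * j + 1) = 1 := by
    rw [← map_pow, ← hj, pow_orderOf_eq_one, map_one]
  have hform : ∀ w : ↥P, IsConj x w → w = x ∨ w = c * x := by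
    intro w hw
    obtain ⟨g, rfl⟩ := isConj_iff.mp hw
    have h1 : g * x * g⁻¹ = ⁅g, x⁆ * x := by simp [commutatorElement_def]
    rcases hcomm g x with h | h
    · left; rw [h1, h, one_mul]
    · right; rw [h1, h]
  have hc2' : (c : G) * c = 1 := congrArg Subtype.val hc2
  have hφc : MulAut.conj m (c : G) = c := hmc
  have hfix : ∀ k : ℕ, ((MulAut.conj m) ^ (2 * k)) (x : G) = x →
      ((MulAut.conj m) ^ (2 * k + 1)) (x : G) = MulAut.conj m x := by
    intro k hk
    rw [pow_succ', MulAut.mul_apply, hk]
  have hno2 : MulAut.conj m (MulAut.conj m (x : G)) ≠ x := by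
    intro h
    have hall : ∀ k : ℕ, ((MulAut.conj m) ^ (2 * k)) (x : G) = x := by
      intro k
      induction k with
      | zero => simp
      | succ k ih =>
        rw [show 2 * (k + 1) = 2 + 2 * k by ring, pow_add, MulAut.mul_apply, ih, pow_two,
          MulAut.mul_apply, h]
    exact hx (((hfix j (hall j)).symm.trans (by rw [hpow, MulAut.one_apply])))
  refine ⟨fun hconj => ?_, fun z hz hconj => ?_⟩
  · rcases hform y hconj with h | h
    · exact hx (hy.symm.trans (congrArg Subtype.val h))
    · have h1 : MulAut.conj m (x : G) = c * x := hy.symm.trans (congrArg Subtype.val h)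
      refine hno2 ?_
      rw [h1, map_mul, hφc, h1, ← mul_assoc, hc2', one_mul]
  · have hz' : (z : G) = MulAut.conj m (MulAut.conj m (x : G)) := by
      rw [hz, hy]; rfl
    rcases hform z hconj with h | h
    · exact hno2 (hz'.symm.trans (congrArg Subtype.val h))
    · have h1 : MulAut.conj m (MulAut.conj m (x : G)) = c * x :=
        hz'.symm.trans (congrArg Subtype.val h)
      have h4 : ((MulAut.conj m) ^ 4) (x : G) = x := by
        rw [show 4 = 1 + 1 + 1 + 1 by rfl, pow_succ, pow_succ, pow_succ, pow_one]
        simp only [MulAut.mul_apply]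
        rw [h1, map_mul, map_mul, hφc, hφc, h1, ← mul_assoc, hc2', one_mul]
      have hall : ∀ k : ℕ, ((MulAut.conj m) ^ (4 * k)) (x : G) = x := by
        intro k
        induction k with
        | zero => simp
        | succ k ih => rw [show 4 * (k + 1) = 4 + 4 * k by ring, pow_add, MulAut.mul_apply, ih, h4]
      refine hno2 ?_
      have hp2 : ((MulAut.conj m) ^ 2) (x : G) = x := by
        rcases Nat.even_or_odd j with ⟨i, hi⟩ | ⟨i, hi⟩
        · have h5 : ((MulAut.conj m) ^ 1) (x : G) = x := by
            have := congrArg (fun φ : MulAut G => φ (x : G)) hpow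
            rw [hi, show 2 * (i + i) + 1 = 1 + 4 * i by ring, pow_add] at this
            simp only [MulAut.mul_apply, MulAut.one_apply, hall] at this
            exact this
          rw [pow_one] at h5
          rw [pow_two, MulAut.mul_apply, h5, h5]
        · have h5 : ((MulAut.conj m) ^ 3) (x : G) = x := by
            have := congrArg (fun φ : MulAut G => φ (x : G)) hpow
            rw [hi, show 2 * (2 * i + 1) + 1 = 3 + 4 * i by ring, pow_add] at this
            simp only [MulAut.mul_apply, MulAut.one_apply, hall] at this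
            exact this
          have h6 : MulAut.conj m (x : G) = x := by
            have := congrArg (MulAut.conj m) h5
            rw [← MulAut.mul_apply, ← pow_succ', h4] at this
            exact this.symm
          rw [pow_two, MulAut.mul_apply, h6, h6]
      rw [pow_two, MulAut.mul_apply] at hp2
      exact hp2

end Cfsg.Agent.Lib.PiClasses
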