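import Cfsg.Agent.Lib.PiClasses.Two

/-!
The normal 2-complement theorem from the number of classes of 2-elements.
-/

set_option autoImplicit false

universe u

namespace Cfsg.Agent.Lib.PiClasses

open scoped commutatorElement Pointwise

variable {G : Type u} [Group G]

/-- If `m` has odd order and `m² x = x`-type symmetries fail, the index of its fixed points is at
least four. -/
theorem four_mul_card_fixed_le [Finite G] {T : Subgroup G} (hT : IsPGroup 2 T) {m : G}
    (hodd : Odd (orderOf m)) (hmT : ∀ t ∈ T, m * t * m⁻¹ ∈ T) {t₀ : G} (ht₀ : t₀ ∈ T)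
    (hne : m * t₀ * m⁻¹ ≠ t₀) :
    4 * Nat.card ↥(T ⊓ Subgroup.centralizer ({m} : Set G)) ≤ Nat.card T := by
  let F := (Subgroup.centralizer ({m} : Set G)).subgroupOf T
  have hcard : Nat.card ↥(T ⊓ Subgroup.centralizer ({m} : Set G)) = Nat.card F :=
    Nat.card_congr ⟨fun x => ⟨⟨x.1, x.2.1⟩, x.2.2⟩, fun t => ⟨t.1.1, t.1.2, t.2⟩,
      fun x => rfl, fun t => rfl⟩
  rw [hcard]
  obtain ⟨n, hn⟩ := hT.index F
  rcases n with _ | _ | n
  · exfalso
    rw [pow_zero, Subgroup.index_eq_one] at hn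
    refine hne ?_
    have : (⟨t₀, ht₀⟩ : T) ∈ F := hn ▸ Subgroup.mem_top _
    have h := Subgroup.mem_centralizer_singleton_iff.mp (Subgroup.mem_subgroupOf.mp this)
    simp only at h
    rw [← h, mul_inv_cancel_right]
  · exfalso
    rw [pow_one] at hn
    let t : T := ⟨t₀, ht₀⟩
    let t' : T := ⟨m * t₀ * m⁻¹, hmT t₀ ht₀⟩
    have hnot : t ∉ F := fun h => hne (by
      have h' := Subgroup.mem_centralizer_singleton_iff.mp (Subgroup.mem_subgroupOf.mp h)
      simp only [t] at h'
      rw [← h', mul_inv_cancel_right])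
    have hnot' : t' ∉ F := fun h => by
      have h' := Subgroup.mem_centralizer_singleton_iff.mp (Subgroup.mem_subgroupOf.mp h)
      simp only [t'] at h'
      rw [inv_mul_cancel_right] at h'
      refine hne ?_
      calc m * t₀ * m⁻¹ = m⁻¹ * (m * (m * t₀ * m⁻¹)) := by group
        _ = m⁻¹ * (m * t₀) := by rw [← h']
        _ = t₀ := by group
    obtain ⟨h1, h2⟩ : t⁻¹ * t' ∈ F ∧ True := by
      refine ⟨?_, trivial⟩
      rw [Subgroup.mul_mem_iff_of_index_two hn, Subgroup.inv_mem_iff]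
      exact iff_of_false hnot hnot'
    have hf := Subgroup.mem_centralizer_singleton_iff.mp (Subgroup.mem_subgroupOf.mp h1)
    set f : G := ((t⁻¹ * t' : T) : G) with hfdef
    have hfv : f = t₀⁻¹ * (m * t₀ * m⁻¹) := rfl
    have hiter : ∀ k : ℕ, m ^ k * t₀ * (m ^ k)⁻¹ = t₀ * f ^ k := by
      intro k
      induction k with
      | zero => simp
      | succ k ih =>
        calc m ^ (k + 1) * t₀ * (m ^ (k + 1))⁻¹ = m * (m ^ k * t₀ * (m ^ k)⁻¹) * m⁻¹ := by
              rw [pow_succ']; group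
          _ = (m * t₀) * (f ^ k * m⁻¹) := by rw [ih]; group
          _ = (m * t₀) * (m⁻¹ * f ^ k) := by
              rw [((show Commute f m from hf).pow_left k).inv_right.eq]
          _ = t₀ * f * f ^ k := by rw [hfv]; group
          _ = t₀ * f ^ (k + 1) := by rw [pow_succ' f k]; group
    have hfo : f ^ orderOf m = 1 := by
      have := hiter (orderOf m)
      rw [pow_orderOf_eq_one, one_mul, inv_one, mul_one] at this
      exact mul_eq_left.mp this.symm
    obtain ⟨k, hk⟩ := hT (t⁻¹ * t')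
    have h1f : orderOf f = 1 := by
      refine Nat.eq_one_of_dvd_coprimes (Nat.Coprime.pow_left k (Nat.coprime_two_left.mpr hodd))
        (orderOf_dvd_of_pow_eq_one ?_) (orderOf_dvd_of_pow_eq_one hfo)
      exact congrArg Subtype.val hk
    rw [orderOf_eq_one_iff, hfv, inv_mul_eq_one] at h1f
    exact hne h1f.symm
  · rw [← F.card_mul_index, hn, mul_comm 4]
    exact Nat.mul_le_mul_left _ (le_trans (by norm_num : 4 ≤ 2 ^ 2)
      (Nat.pow_le_pow_right two_pos (by omega)))

variable [Finite G]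

/-- The moved part of an invariant 2-subgroup. -/
theorem orbit_hyp (P : Sylow 2 G) {T : Subgroup G} (hTP : T ≤ (P : Subgroup G)) {c : ↥(P : Subgroup G)}
    (hcomm : ∀ x y : ↥(P : Subgroup G), ⁅x, y⁆ = 1 ∨ ⁅x, y⁆ = c) (hc2 : c * c = 1)
    (hcT : (c : G) ∈ T) {m : G} (hodd : Odd (orderOf m)) (hmT : ∀ t ∈ T, m * t * m⁻¹ ∈ T)
    (hmc : m * c * m⁻¹ = (c : G)) :
    (∀ x ∈ {x : ↥(P : Subgroup G) | (x : G) ∈ T ∧ m * (x : G) * m⁻¹ ≠ x}, ∀ y, IsConj x y →
      y ∈ {x : ↥(P : Subgroup G) | (x : G) ∈ T ∧ m * (x : G) * m⁻¹ ≠ x}) ∧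
    (∀ x ∈ {x : ↥(P : Subgroup G) | (x : G) ∈ T ∧ m * (x : G) * m⁻¹ ≠ x},
      ∃ y ∈ {x : ↥(P : Subgroup G) | (x : G) ∈ T ∧ m * (x : G) * m⁻¹ ≠ x},
        (y : G) = m * x * m⁻¹ ∧ ¬ IsConj x y ∧
        ∀ z : ↥(P : Subgroup G), (z : G) = m * y * m⁻¹ → ¬ IsConj x z) := by
  constructor
  · rintro x ⟨hxT, hx⟩ y hxy
    obtain ⟨g, rfl⟩ := isConj_iff.mp hxy
    rcases hcomm g x with h | h
    · rw [show g * x * g⁻¹ = x by
        rw [commutatorElement_def, mul_inv_eq_one] at h; exact h]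
      exact ⟨hxT, hx⟩
    · have h1 : g * x * g⁻¹ = c * x := by rw [← h, commutatorElement_def]; group
      rw [h1]
      refine ⟨T.mul_mem hcT hxT, fun h2 => hx ?_⟩
      have h3 : (m * c * m⁻¹) * (m * (x : G) * m⁻¹) = c * x := by
        push_cast at h2
        rw [← h2]; group
      rw [hmc] at h3
      exact mul_left_cancel h3
  · rintro x ⟨hxT, hx⟩
    refine ⟨⟨m * x * m⁻¹, hTP (hmT x hxT)⟩, ⟨hmT x hxT, fun h => hx ?_⟩, rfl,
      (not_isConj_of_odd hcomm hodd hc2 hmc (y := ⟨m * x * m⁻¹, hTP (hmT x hxT)⟩) rfl hx).1,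
      (not_isConj_of_odd hcomm hodd hc2 hmc (y := ⟨m * x * m⁻¹, hTP (hmT x hxT)⟩) rfl hx).2⟩
    simp only at h
    calc m * (x : G) * m⁻¹ = m⁻¹ * (m * (m * x * m⁻¹) * m⁻¹) * m := by group
      _ = x := by rw [h]; group

theorem card_moved {P : Subgroup G} {T : Subgroup G} (hTP : T ≤ P) (m : G) :
    Nat.card {x : ↥P | (x : G) ∈ T ∧ m * (x : G) * m⁻¹ ≠ x} +
      Nat.card ↥(T ⊓ Subgroup.centralizer ({m} : Set G)) = Nat.card T := by
  classical
  haveI : Fintype G := Fintype.ofFinite G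
  have h : Nat.card {x : ↥P | (x : G) ∈ T ∧ m * (x : G) * m⁻¹ ≠ x} =
      Nat.card {t : T // ¬ (t : G) ∈ Subgroup.centralizer ({m} : Set G)} := by
    refine Nat.card_congr ⟨fun x => ⟨⟨x.1.1, x.2.1⟩, fun h => x.2.2 ?_⟩,
      fun t => ⟨⟨t.1.1, hTP t.1.2⟩, t.1.2, fun h => t.2 ?_⟩, fun x => rfl, fun t => rfl⟩
    · have h' := Subgroup.mem_centralizer_singleton_iff.mp h
      simp only at h'
      rw [← h', mul_inv_cancel_right]
    · rw [Subgroup.mem_centralizer_singleton_iff]
      simp only at h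
      calc (t.1 : G) * m = (m * t.1 * m⁻¹) * m := by rw [h]
        _ = m * t.1 := by group
  have h2 : Nat.card ↥(T ⊓ Subgroup.centralizer ({m} : Set G)) =
      Nat.card {t : T // (t : G) ∈ Subgroup.centralizer ({m} : Set G)} :=
    Nat.card_congr ⟨fun x => ⟨⟨x.1, x.2.1⟩, x.2.2⟩, fun t => ⟨t.1.1, t.1.2, t.2⟩,
      fun x => rfl, fun t => rfl⟩
  rw [h, h2, ← Nat.card_sum, Nat.card_congr ((Equiv.sumComm _ _).trans (Equiv.sumCompl _))]

theorem odd_normalizer_centralizes (P : Sylow 2 G)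
    (hk : Nat.card ↥(P : Subgroup G) < 2 * Nat.card (PiClass ({2} : Set ℕ) G))
    {m : G} (hodd : Odd (orderOf m))
    (hm : ∀ t ∈ (P : Subgroup G), m * t * m⁻¹ ∈ (P : Subgroup G)) :
    ∀ t ∈ (P : Subgroup G), m * t * m⁻¹ = t := by
  classical
  by_contra hcon
  push Not at hcon
  obtain ⟨t₀, ht₀, hne⟩ := hcon
  have hkP : Nat.card ↥(P : Subgroup G) < 2 * Nat.card (ConjClasses ↥(P : Subgroup G)) :=
    hk.trans_le (Nat.mul_le_mul_left 2 (card_pClass_le_sylow P))
  obtain ⟨c₀, -, hc₀, hcomm₀⟩ := exists_commutator_subsingleton P.2 hkP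
  obtain ⟨c, hc2, hcomm, hmc⟩ : ∃ c : ↥(P : Subgroup G), c * c = 1 ∧
      (∀ x y, ⁅x, y⁆ = 1 ∨ ⁅x, y⁆ = c) ∧ m * c * m⁻¹ = (c : G) := by
    by_cases hall : ∀ x y : ↥(P : Subgroup G), ⁅x, y⁆ = 1
    · exact ⟨1, one_mul 1, fun x y => Or.inl (hall x y), by simp⟩
    push Not at hall
    obtain ⟨x, y, hxy⟩ := hall
    refine ⟨c₀, hc₀, hcomm₀, ?_⟩
    have hxy' : ⁅x, y⁆ = c₀ := (hcomm₀ x y).resolve_left hxy
    have h1 : ((⁅(⟨m * x * m⁻¹, hm x x.2⟩ : ↥(P : Subgroup G)), ⟨m * y * m⁻¹, hm y y.2⟩⁆ :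
        ↥(P : Subgroup G)) : G) = m * c₀ * m⁻¹ := by
      rw [← hxy']
      simp only [commutatorElement_def]
      push_cast
      group
    rcases hcomm₀ ⟨m * x * m⁻¹, hm x x.2⟩ ⟨m * y * m⁻¹, hm y y.2⟩ with h | h
    · rw [h, Subgroup.coe_one, eq_comm, mul_inv_eq_one, mul_eq_left] at h1
      exact absurd (hxy'.trans (Subtype.ext h1)) hxy
    · rw [h] at h1; exact h1.symm
  obtain ⟨hS, hmov⟩ := orbit_hyp P le_rfl hcomm hc2 c.2 hodd hm hmc
  set S := {x : ↥(P : Subgroup G) | (x : G) ∈ (P : Subgroup G) ∧ m * (x : G) * m⁻¹ ≠ x} with hSdef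
  have h3 := three_mul_card_pClass_le P S hS m hmov
  have h4 := four_mul_card_fixed_le P.2 hodd hm ht₀ hne
  have h5 := card_moved (le_refl (P : Subgroup G)) m
  rw [← hSdef] at h5
  -- classes inside and outside `S`
  haveI : Fintype (ConjClasses ↥(P : Subgroup G)) := Fintype.ofFinite _
  have h6 : Nat.card (ConjClasses ↥(P : Subgroup G)) ≤
      Nat.card {c : ConjClasses ↥(P : Subgroup G) // c.carrier ⊆ S} +
        Nat.card ↥(((P : Subgroup G)) ⊓ Subgroup.centralizer ({m} : Set G)) := by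
    let Ω : Finset (ConjClasses ↥(P : Subgroup G)) := Finset.univ.filter fun c => c.carrier ⊆ S
    have hΩ : Nat.card {c : ConjClasses ↥(P : Subgroup G) // c.carrier ⊆ S} = Ω.card := by
      rw [Nat.card_eq_fintype_card, Fintype.card_subtype]
    rw [hΩ, Nat.card_eq_fintype_card, ← Finset.card_add_card_compl Ω]
    refine Nat.add_le_add_left ?_ _
    rw [← Nat.card_eq_finsetCard]
    have hout : ∀ c : ↥(Ωᶜ), m * ((Quotient.out c.1 : ↥(P : Subgroup G)) : G) * m⁻¹ =
        (Quotient.out c.1 : ↥(P : Subgroup G)) := by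
      rintro ⟨c, hc⟩
      by_contra hne'
      refine (Finset.mem_compl.mp hc) (Finset.mem_filter.mpr ⟨Finset.mem_univ _, fun y hy => ?_⟩)
      exact hS _ ⟨(Quotient.out c).2, hne'⟩ y (ConjClasses.mk_eq_mk_iff_isConj.mp
        ((show ConjClasses.mk (Quotient.out c) = c from Quotient.out_eq c).trans
          (ConjClasses.mem_carrier_iff_mk_eq.mp hy).symm))
    refine Nat.card_le_card_of_injective (fun c => (⟨((Quotient.out c.1 : ↥(P : Subgroup G)) : G),
      (Quotient.out c.1).2, Subgroup.mem_centralizer_singleton_iff.mpr ?_⟩ :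
        ↥((P : Subgroup G) ⊓ Subgroup.centralizer ({m} : Set G)))) ?_
    · have := hout c
      calc ((Quotient.out c.1 : ↥(P : Subgroup G)) : G) * m
          = (m * ((Quotient.out c.1 : ↥(P : Subgroup G)) : G) * m⁻¹) * m := by rw [this]
        _ = m * ((Quotient.out c.1 : ↥(P : Subgroup G)) : G) := by group
    · intro a b hab
      exact Subtype.ext (Quotient.out_inj.mp (Subtype.ext (congrArg Subtype.val hab :)))
  have h7 : Nat.card {c : ConjClasses ↥(P : Subgroup G) // c.carrier ⊆ S} ≤ Nat.card S := by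
    simpa using card_classes_mul_le_card S 1 fun x _ => Nat.one_le_iff_ne_zero.mpr
      Subgroup.index_ne_zero_of_finite
  omega

/-- Central elements of a Sylow 2-subgroup fixed by an odd order element normalising a large
subgroup. -/
theorem odd_centralizes_of_center_le (P : Sylow 2 G)
    (hk : Nat.card ↥(P : Subgroup G) < 2 * Nat.card (PiClass ({2} : Set ℕ) G))
    {T : Subgroup G} (hTP : T ≤ (P : Subgroup G))
    (hZT : ∀ z ∈ Subgroup.center ↥(P : Subgroup G), (z : G) ∈ T)
    {m : G} (hodd : Odd (orderOf m)) (hmT : ∀ t ∈ T, m * t * m⁻¹ ∈ T) :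
    ∀ t ∈ T, m * t * m⁻¹ = t := by
  classical
  by_contra hcon
  push Not at hcon
  obtain ⟨t₀, ht₀, hne⟩ := hcon
  have hkP : Nat.card ↥(P : Subgroup G) < 2 * Nat.card (ConjClasses ↥(P : Subgroup G)) :=
    hk.trans_le (Nat.mul_le_mul_left 2 (card_pClass_le_sylow P))
  obtain ⟨c, hcZ, hc2, hcomm⟩ := exists_commutator_subsingleton P.2 hkP
  -- `2 k(P) ≤ |P| + |Z|`
  have hkle := prime_mul_card_conjClasses_le (G := ↥(P : Subgroup G)) P.2
  rw [show 2 - 1 = 1 from rfl, one_mul] at hkle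
  -- two conjugate central elements are equal
  have hfus : ∀ z ∈ Subgroup.center ↥(P : Subgroup G), ∀ w ∈ Subgroup.center ↥(P : Subgroup G),
      IsConj (z : G) (w : G) → z = w := by
    intro z hz w hw hzw
    obtain ⟨g, hg⟩ := isConj_iff.mp hzw
    have hzc : (z : G) ∈ Subgroup.centralizer ((P : Subgroup G) : Set G) :=
      Subgroup.mem_centralizer_iff.mpr fun y hy =>
        congrArg Subtype.val (Subgroup.mem_center_iff.mp hz ⟨y, hy⟩)
    have hwc : g * (z : G) * g⁻¹ ∈ Subgroup.centralizer ((P : Subgroup G) : Set G) := by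
      rw [hg]
      exact Subgroup.mem_centralizer_iff.mpr fun y hy =>
        congrArg Subtype.val (Subgroup.mem_center_iff.mp hw ⟨y, hy⟩)
    obtain ⟨n, hn, hnz⟩ := P.conj_eq_normalizer_conj_of_mem_centralizer (z : G) g⁻¹ hzc
      (by simpa using hwc)
    -- split `n` into its odd part and its 2-part
    obtain ⟨u, v, huv, hcom, hu, hv⟩ := exists_decomposition (p := 2) (π := {r | r ≠ 2}) (x := n)
      fun r _ _ => by by_cases h : r = 2 <;> simp [h]
    obtain ⟨i, hi⟩ := (isPiElt_singleton_iff u).mp hu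
    have hvodd : Odd (orderOf v) := by
      rw [Nat.odd_iff, ← Nat.two_dvd_ne_zero]
      exact fun h => hv 2 Nat.prime_two h rfl
    have hvN : v ∈ Subgroup.normalizer ((P : Subgroup G) : Set G) ∧
        u ∈ Subgroup.normalizer ((P : Subgroup G) : Set G) := by
      have hcop : (2 ^ i).Coprime (orderOf v) := Nat.Coprime.pow_left _ (Nat.coprime_two_left.mpr hvodd)
      obtain ⟨k, hk'⟩ := exists_pow_eq_self_of_coprime hcop
      have hvn : v = (n ^ 2 ^ i) ^ k := by
        rw [huv, hcom.mul_pow, ← hi, pow_orderOf_eq_one, one_mul, hi, hk']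
      have hvN : v ∈ Subgroup.normalizer ((P : Subgroup G) : Set G) :=
        hvn ▸ pow_mem (pow_mem hn _) _
      refine ⟨hvN, ?_⟩
      rw [show u = n * v⁻¹ by rw [huv]; group]
      exact mul_mem hn (inv_mem hvN)
    have huP : u ∈ (P : Subgroup G) := by
      have hpg : IsPGroup 2 (Subgroup.zpowers u) :=
        IsPGroup.of_card (n := i) (by rw [Nat.card_zpowers, hi])
      exact (hpg.inf_normalizer_sylow P).le ⟨Subgroup.mem_zpowers u, hvN.2⟩ |>.2
    have hvP := odd_normalizer_centralizes P hk hvodd fun t ht =>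
      (Subgroup.mem_normalizer_iff.mp hvN.1 t).mp ht
    have hvz : v⁻¹ * (z : G) * v = z := by
      have := hvP z z.2
      calc v⁻¹ * (z : G) * v = v⁻¹ * (v * z * v⁻¹) * v := by rw [this]
        _ = z := by group
    have huz : u⁻¹ * (z : G) * u = z := by
      rw [mul_assoc, ← Subgroup.mem_centralizer_iff.mp hzc u huP, inv_mul_cancel_left]
    apply Subtype.ext
    rw [← hg]
    have : g * (z : G) * g⁻¹ = n⁻¹ * z * n := by simpa using hnz
    rw [this, huv, mul_inv_rev]
    symm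
    calc v⁻¹ * u⁻¹ * (z : G) * (u * v) = v⁻¹ * (u⁻¹ * z * u) * v := by group
      _ = z := by rw [huz, hvz]
  -- most central elements are alone in their class
  let Z₀ : Finset ↥(P : Subgroup G) := by
    haveI : Fintype ↥(P : Subgroup G) := Fintype.ofFinite _
    exact Finset.univ.filter fun z => z ∈ Subgroup.center ↥(P : Subgroup G) ∧
      ∀ y : ↥(P : Subgroup G), IsConj (z : G) (y : G) → y = z
  have hfix : ∀ z ∈ Subgroup.center ↥(P : Subgroup G), m * (z : G) * m⁻¹ = z := by
    haveI : Fintype (ConjClasses ↥(P : Subgroup G)) := Fintype.ofFinite _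
    haveI : Fintype ↥(P : Subgroup G) := Fintype.ofFinite _
    let M : Finset ↥(P : Subgroup G) := Finset.univ.filter fun z =>
      z ∈ Subgroup.center ↥(P : Subgroup G) ∧ z ∉ Z₀
    let Mc : Finset (ConjClasses ↥(P : Subgroup G)) := M.image ConjClasses.mk
    have hMc : Mc.card = M.card := by
      refine Finset.card_image_of_injOn fun a ha b hb hab => ?_
      have ha' := (Finset.mem_filter.mp ha).2.1
      have hb' := (Finset.mem_filter.mp hb).2.1
      exact hfus a ha' b hb'
        (MonoidHom.map_isConj (P : Subgroup G).subtype (ConjClasses.mk_eq_mk_iff_isConj.mp hab))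
    have hk2 : Nat.card (PiClass ({2} : Set ℕ) G) ≤ (Mcᶜ).card := by
      rw [← Nat.card_eq_finsetCard]
      refine card_piClass_le_of_cover
        (fun t : ↥(Mcᶜ) => ConjClasses.map (P : Subgroup G).subtype t.1) fun x hx => ?_
      obtain ⟨y, hy, hxy⟩ := exists_conj_mem_sylow P hx
      by_cases hyM : ConjClasses.mk (⟨y, hy⟩ : ↥(P : Subgroup G)) ∈ Mc
      · obtain ⟨z, hzM, hzy⟩ := Finset.mem_image.mp hyM
        obtain ⟨hzZ, hz0⟩ := (Finset.mem_filter.mp hzM).2
        simp only [Z₀, Finset.mem_filter, Finset.mem_univ, true_and, not_and, not_forall] at hz0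
        obtain ⟨y', hzy', hne'⟩ := hz0 hzZ
        refine ⟨⟨ConjClasses.mk y', Finset.mem_compl.mpr fun hy'M => ?_⟩, ?_⟩
        · obtain ⟨z', hz'M, hz'y⟩ := Finset.mem_image.mp hy'M
          have hz'Z := (Finset.mem_filter.mp hz'M).2.1
          have h1 : y' = z' := by
            obtain ⟨r, hr⟩ := isConj_iff.mp (ConjClasses.mk_eq_mk_iff_isConj.mp hz'y)
            rw [← hr, Subgroup.mem_center_iff.mp hz'Z r, mul_inv_cancel_right]
          subst h1
          exact hne' (hfus z hzZ _ hz'Z hzy').symm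
        · refine ConjClasses.mk_eq_mk_iff_isConj.mpr ?_
          exact hzy'.symm.trans ((MonoidHom.map_isConj (P : Subgroup G).subtype
            (ConjClasses.mk_eq_mk_iff_isConj.mp hzy)).trans hxy.symm)
      · exact ⟨⟨_, Finset.mem_compl.mpr hyM⟩, ConjClasses.mk_eq_mk_iff_isConj.mpr hxy.symm⟩
    have hsum : Mc.card + (Mcᶜ).card = Nat.card (ConjClasses ↥(P : Subgroup G)) := by
      rw [Finset.card_add_card_compl, Nat.card_eq_fintype_card]
    have hZcard : Nat.card (Subgroup.center ↥(P : Subgroup G)) = Z₀.card + M.card := by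
      rw [← Finset.card_union_of_disjoint, ← Nat.card_eq_finsetCard]
      · refine Nat.card_congr (Equiv.subtypeEquivRight fun z => ?_)
        simp only [Finset.mem_union, M, Finset.mem_filter, Finset.mem_univ, true_and]
        constructor
        · intro hz; by_cases h : z ∈ Z₀
          · exact Or.inl h
          · exact Or.inr ⟨hz, h⟩
        · rintro (h | h)
          · simp only [Z₀, Finset.mem_filter] at h; exact h.2.1
          · exact h.1
      · rw [Finset.disjoint_left]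
        intro z hz hzM
        exact (Finset.mem_filter.mp hzM).2.2 hz
    -- the fixed central elements form a subgroup containing `Z₀`
    let K : Subgroup ↥(P : Subgroup G) :=
      (Subgroup.centralizer ({m} : Set G)).subgroupOf (P : Subgroup G) ⊓ Subgroup.center _
    have hZ₀K : ∀ z ∈ Z₀, z ∈ K := by
      intro z hz
      simp only [Z₀, Finset.mem_filter, Finset.mem_univ, true_and] at hz
      refine ⟨?_, hz.1⟩
      have hy := hz.2 ⟨m * z * m⁻¹, hTP (hmT z (hZT z hz.1))⟩ (isConj_iff.mpr ⟨m, rfl⟩)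
      have hy' : m * (z : G) * m⁻¹ = z := congrArg Subtype.val hy
      show (z : G) ∈ Subgroup.centralizer ({m} : Set G)
      rw [Subgroup.mem_centralizer_singleton_iff]
      calc (z : G) * m = (m * z * m⁻¹) * m := by rw [hy']
        _ = m * z := by group
    have hK1 : Z₀.card ≤ Nat.card K := by
      rw [← Nat.card_eq_finsetCard]
      exact Nat.card_le_card_of_injective (fun z : Z₀ => (⟨z.1, hZ₀K z.1 z.2⟩ : K))
        fun a b hab => Subtype.ext (congrArg Subtype.val hab :)
    have hKZ : K = Subgroup.center ↥(P : Subgroup G) := by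
      by_contra hKne
      obtain ⟨d, hd⟩ := Subgroup.card_dvd_of_le
        (inf_le_right : K ≤ Subgroup.center ↥(P : Subgroup G))
      have hd1 : d ≠ 1 := fun h => hKne (Subgroup.eq_of_le_of_card_ge inf_le_right (by
        rw [hd, h, mul_one]))
      have hd0 : d ≠ 0 := fun h => (Nat.card_pos (α := Subgroup.center ↥(P : Subgroup G))).ne'
        (by rw [hd, h, mul_zero])
      have h2 : 2 * Nat.card K ≤ Nat.card (Subgroup.center ↥(P : Subgroup G)) := by
        rw [hd, mul_comm 2]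
        exact Nat.mul_le_mul_left _ (by omega)
      omega
    intro z hz
    have hzK : z ∈ K := hKZ ▸ hz
    rw [← (Subgroup.mem_centralizer_singleton_iff.mp (Subgroup.mem_subgroupOf.mp hzK.1)),
      mul_inv_cancel_right]
  obtain ⟨hS, hmov⟩ := orbit_hyp P hTP hcomm hc2 (hZT c hcZ) hodd hmT (hfix c hcZ)
  set S := {x : ↥(P : Subgroup G) | (x : G) ∈ T ∧ m * (x : G) * m⁻¹ ≠ x} with hSdef
  have h3 := three_mul_card_pClass_le P S hS m hmov
  have h4 := four_mul_card_fixed_le (P.2.to_le hTP) hodd hmT ht₀ hne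
  have h5 := card_moved hTP m
  rw [← hSdef] at h5
  have h6 : Nat.card (Subgroup.center ↥(P : Subgroup G)) ≤
      Nat.card ↥(T ⊓ Subgroup.centralizer ({m} : Set G)) :=
    Nat.card_le_card_of_injective (fun z => (⟨(z.1 : G), hZT z.1 z.2,
      Subgroup.mem_centralizer_singleton_iff.mpr (by
        calc (z.1 : G) * m = (m * z.1 * m⁻¹) * m := by rw [hfix z.1 z.2]
          _ = m * z.1 := by group)⟩ : ↥(T ⊓ Subgroup.centralizer ({m} : Set G))))
      fun a b hab => Subtype.ext (Subtype.ext (congrArg Subtype.val hab :))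
  -- every class in `S` has at most two elements
  have h7 : Nat.card S ≤ 2 * Nat.card {c : ConjClasses ↥(P : Subgroup G) // c.carrier ⊆ S} := by
    haveI : Fintype {c : ConjClasses ↥(P : Subgroup G) // c.carrier ⊆ S} := Fintype.ofFinite _
    have hsub : ∀ x ∈ S, (ConjClasses.mk x).carrier ⊆ S := fun x hx y hy =>
      hS x hx y (ConjClasses.mk_eq_mk_iff_isConj.mp (ConjClasses.mem_carrier_iff_mk_eq.mp hy).symm)
    let F : Σ c : {c : ConjClasses ↥(P : Subgroup G) // c.carrier ⊆ S}, c.1.carrier := ⟨⟨ConjClasses.mk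
      (⟨t₀, hTP ht₀⟩ : ↥(P : Subgroup G)), hsub _ ⟨ht₀, hne⟩⟩, ⟨_, ConjClasses.mem_carrier_mk⟩⟩
    refine (Nat.card_le_card_of_injective
      (fun x : S => (⟨⟨ConjClasses.mk x.1, hsub x.1 x.2⟩, ⟨x.1, ConjClasses.mem_carrier_mk⟩⟩ :
        Σ c : {c : ConjClasses ↥(P : Subgroup G) // c.carrier ⊆ S}, c.1.carrier)) ?_).trans ?_
    · intro a b hab
      exact Subtype.ext (congrArg (fun t : Σ c : {c : ConjClasses ↥(P : Subgroup G) // c.carrier ⊆ S},
        c.1.carrier => (t.2 : ↥(P : Subgroup G))) hab)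
    rw [Nat.card_sigma, mul_comm, Nat.card_eq_fintype_card, ← smul_eq_mul, ← Finset.card_univ]
    refine Finset.sum_le_card_nsmul _ _ 2 fun d _ => ?_
    obtain ⟨⟨x⟩, hd⟩ := d
    refine le_trans (Nat.card_le_card_of_injective
      (fun y : (ConjClasses.mk x).carrier => decide (y.1 = x)) ?_) (by simp)
    rintro ⟨a, ha⟩ ⟨b, hb⟩ hab
    have hform : ∀ w ∈ (ConjClasses.mk x).carrier, w = x ∨ w = c * x := by
      intro w hw
      obtain ⟨g, rfl⟩ := isConj_iff.mp
        (ConjClasses.mk_eq_mk_iff_isConj.mp (ConjClasses.mem_carrier_iff_mk_eq.mp hw).symm)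
      have h1 : g * x * g⁻¹ = ⁅g, x⁆ * x := by simp [commutatorElement_def]
      rcases hcomm g x with h | h
      · left; rw [h1, h, one_mul]
      · right; rw [h1, h]
    simp only [decide_eq_decide] at hab
    rcases hform a ha with rfl | rfl <;> rcases hform b hb with rfl | rfl
    · rfl
    · exact Subtype.ext (hab.mp rfl).symm
    · exact Subtype.ext (hab.mpr rfl)
    · rfl
  omega

/-- **Many classes of 2-elements force a normal 2-complement.** -/
theorem hasNormalTwoComplement_of_twoClass_bound (P : Sylow 2 G)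
    (hk : Nat.card ↥(P : Subgroup G) < 2 * Nat.card (PiClass ({2} : Set ℕ) G)) :
    Cfsg.HasNormalPComplement 2 G := by
  classical
  rw [Cfsg.Agent.Lib.Transfer.hasNormalPComplement_iff_locallyPTrivial]
  refine Cfsg.Agent.Lib.Transfer.locallyPTrivial_of_sylow P fun Q hQP g hgN hgo => ?_
  set C := Subgroup.centralizer (Q : Set G) with hC
  set N := Subgroup.normalizer (Q : Set G) with hN
  have hgodd : Odd (orderOf g) := by
    rw [Nat.odd_iff, ← Nat.two_dvd_ne_zero]
    intro h
    exact (Nat.prime_two.coprime_iff_not_dvd.mp hgo.symm) h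
  -- a Sylow subgroup of the normaliser and its part in the centraliser
  haveI hCn : (C.subgroupOf N).Normal := by
    constructor
    intro x hx n
    rw [Subgroup.mem_subgroupOf, Subgroup.mem_centralizer_iff] at hx ⊢
    intro q hq
    have h := hx ((n : G)⁻¹ * q * n) (by
      have := (Subgroup.mem_normalizer_iff.mp (N.inv_mem n.2) q).mp hq
      simpa using this)
    push_cast
    calc q * ((n : G) * x * (n : G)⁻¹) = n * ((n : G)⁻¹ * q * n * x) * (n : G)⁻¹ := by group
      _ = n * (x * ((n : G)⁻¹ * q * n)) * (n : G)⁻¹ := by rw [h]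
      _ = (n : G) * x * (n : G)⁻¹ * q := by group
  obtain ⟨S⟩ : Nonempty (Sylow 2 ↥(C.subgroupOf N)) := inferInstance
  obtain ⟨R, hRS⟩ := Sylow.exists_comap_subtype_eq S
  have hQR : Q ≤ (R : Subgroup N).map N.subtype := by
    intro q hq
    have hqN : q ∈ N := Subgroup.le_normalizer hq
    have hQp : IsPGroup 2 (Q.subgroupOf N) :=
      (P.2.to_le hQP).comap_subtype
    haveI : (Q.subgroupOf N).Normal := Subgroup.normal_in_normalizer
    exact ⟨⟨q, hqN⟩, (hQp.le_sylow_of_normal R) (show (⟨q, hqN⟩ : N) ∈ Q.subgroupOf N from hq), rfl⟩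
  obtain ⟨P', hP'⟩ := (R.2.map N.subtype).exists_le_sylow
  have hfr := Sylow.normalizer_sup_eq_top S
  have hgmem : (⟨g, hgN⟩ : N) ∈ (⊤ : Subgroup N) := Subgroup.mem_top _
  rw [← hfr, ← SetLike.mem_coe, Subgroup.mul_normal] at hgmem
  obtain ⟨a, ha, b, hb, hab⟩ := Set.mem_mul.mp hgmem
  -- odd part of `a`
  obtain ⟨u, v, huv, hcom, hu, hv⟩ := exists_decomposition (p := 2) (π := {r | r ≠ 2}) (x := a)
    fun r _ _ => by by_cases h : r = 2 <;> simp [h]
  obtain ⟨i, hi⟩ := (isPiElt_singleton_iff u).mp hu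
  have hvodd : Odd (orderOf v) := by
    rw [Nat.odd_iff, ← Nat.two_dvd_ne_zero]
    exact fun h => hv 2 Nat.prime_two h rfl
  have hvS : v ∈ Subgroup.normalizer (((S : Subgroup ↥(C.subgroupOf N)).map (C.subgroupOf N).subtype : Subgroup N) : Set N) := by
    obtain ⟨k, hk'⟩ := exists_pow_eq_self_of_coprime
      (Nat.Coprime.pow_left i (Nat.coprime_two_left.mpr hvodd) : (2 ^ i).Coprime (orderOf v))
    have hvn : v = (a ^ 2 ^ i) ^ k := by
      rw [huv, hcom.mul_pow, ← hi, pow_orderOf_eq_one, one_mul, hi, hk']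
    rw [hvn]
    exact pow_mem (pow_mem ha _) _
  -- `T = Q ⊔ S` inside `P'`
  let S' : Subgroup G := ((S : Subgroup ↥(C.subgroupOf N)).map (C.subgroupOf N).subtype).map N.subtype
  have hSeq : (S : Subgroup ↥(C.subgroupOf N)) = (R : Subgroup N).subgroupOf (C.subgroupOf N) := hRS.symm
  have hS'R : S' ≤ (R : Subgroup N).map N.subtype := by
    refine Subgroup.map_mono ?_
    rw [hSeq, Subgroup.subgroupOf_map_subtype]
    exact inf_le_left
  let T : Subgroup G := Q ⊔ S'
  have hTP' : T ≤ (P' : Subgroup G) := (sup_le hQR hS'R).trans hP'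
  have hkP' : Nat.card ↥(P' : Subgroup G) < 2 * Nat.card (PiClass ({2} : Set ℕ) G) := by
    rw [P'.card_eq_multiplicity, ← P.card_eq_multiplicity]; exact hk
  have hZT : ∀ z ∈ Subgroup.center ↥(P' : Subgroup G), (z : G) ∈ T := by
    intro z hz
    have hzC : (z : G) ∈ C := Subgroup.mem_centralizer_iff.mpr fun q hq =>
      congrArg Subtype.val (Subgroup.mem_center_iff.mp hz ⟨q, hP' (hQR hq)⟩)
    have hzN : (z : G) ∈ N := by
      rw [hN, Subgroup.mem_normalizer_iff]
      intro q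
      constructor
      · intro hq
        rwa [← Subgroup.mem_centralizer_iff.mp hzC q hq, mul_inv_cancel_right]
      · intro hq
        have h := Subgroup.mem_centralizer_iff.mp hzC _ hq
        rw [inv_mul_cancel_right] at h
        rwa [show q = (z : G) * q * (z : G)⁻¹ from mul_left_cancel h]
    refine Subgroup.mem_sup_right ⟨⟨z, hzN⟩, ?_, rfl⟩
    have hzR : (⟨z, hzN⟩ : N) ∈ (R : Subgroup N) := by
      have hle : (R : Subgroup N) ≤ (P' : Subgroup G).subgroupOf N := fun r hr => hP' ⟨r, hr, rfl⟩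
      have heq := R.3 P'.2.comap_subtype hle
      exact heq.le z.2
    rw [hSeq, Subgroup.subgroupOf_map_subtype]
    exact ⟨hzR, hzC⟩
  have hvT : ∀ t ∈ T, (v : G) * t * (v : G)⁻¹ ∈ T := by
    intro t ht
    have hle : T ≤ T.comap (MulAut.conj (v : G)).toMonoidHom := by
      refine sup_le (fun q hq => Subgroup.mem_sup_left ?_) ?_
      · exact (Subgroup.mem_normalizer_iff.mp v.2 q).mp hq
      · rintro _ ⟨s, hs, rfl⟩
        refine Subgroup.mem_sup_right ⟨v * s * v⁻¹, (Subgroup.mem_normalizer_iff.mp hvS s).mp hs, ?_⟩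
        simp
    exact hle ht
  have hvo : Odd (orderOf (v : G)) := by rwa [Subgroup.orderOf_coe]
  have hvfix := odd_centralizes_of_center_le P' hkP' hTP' hZT hvo hvT
  -- the action of `g` on `Q` is that of the odd part of `a`
  rw [Subgroup.mem_centralizer_iff]
  intro q hq
  have hbC : (b : G) ∈ C := hb
  have hgq : ∀ k : ℕ, ∀ q ∈ Q, (g : G) ^ k * q * ((g : G) ^ k)⁻¹ = (a : G) ^ k * q * ((a : G) ^ k)⁻¹ := by
    intro k
    induction k with
    | zero => simp
    | succ k ih =>
      intro q hq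
      have hg' : g = (a : G) * b := (congrArg Subtype.val hab).symm
      have hbq : (b : G) * q * (b : G)⁻¹ = q := by
        rw [← Subgroup.mem_centralizer_iff.mp hbC q hq, mul_inv_cancel_right]
      have haq : (a : G) * q * (a : G)⁻¹ ∈ Q := (Subgroup.mem_normalizer_iff.mp a.2 q).mp hq
      calc g ^ (k + 1) * q * (g ^ (k + 1))⁻¹
          = g ^ k * ((a : G) * ((b : G) * q * (b : G)⁻¹) * (a : G)⁻¹) * (g ^ k)⁻¹ := by
            rw [pow_succ, hg']; group
        _ = (a : G) ^ k * ((a : G) * q * (a : G)⁻¹) * ((a : G) ^ k)⁻¹ := by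
            rw [hbq, ih _ haq]
        _ = (a : G) ^ (k + 1) * q * ((a : G) ^ (k + 1))⁻¹ := by rw [pow_succ]; group
  obtain ⟨k, hk'⟩ := exists_pow_eq_self_of_coprime
    (Nat.Coprime.pow_left i (Nat.coprime_two_left.mpr hgodd) : (2 ^ i).Coprime (orderOf g))
  rw [← pow_mul] at hk'
  have hak : (a : G) ^ (2 ^ i * k) = (v : G) ^ (2 ^ i * k) := by
    rw [← Subgroup.coe_pow, ← Subgroup.coe_pow, huv, hcom.mul_pow,
      show u ^ (2 ^ i * k) = 1 by rw [pow_mul, ← hi, pow_orderOf_eq_one, one_pow], one_mul]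
  have hfinal : g * q * g⁻¹ = q := by
    have h1 := hgq (2 ^ i * k) q hq
    rw [hk', hak] at h1
    rw [h1]
    have hvq : Commute (v : G) q := by
      have := hvfix q (Subgroup.mem_sup_left hq)
      show (v : G) * q = q * v
      calc (v : G) * q = ((v : G) * q * (v : G)⁻¹) * v := by group
        _ = q * v := by rw [this]
    rw [(hvq.pow_left _).eq, mul_inv_cancel_right]
  calc q * g = (g * q * g⁻¹) * g := by rw [hfinal]
    _ = g * q := by group

end Cfsg.Agent.Lib.PiClasses
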