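import Cfsg.Agent.Lib.PiClasses.Basic

/-!
`k_{σ ∪ τ}(G) ≤ k_σ(G) |G|_τ` for disjoint finite sets of primes.
-/

set_option autoImplicit false

universe u

namespace Cfsg.Agent.Lib.PiClasses

variable {G : Type u} [Group G]

/-- Splitting an element along two disjoint sets of primes. -/
theorem exists_decomposition_union [Finite G] (σ : Finset ℕ) (hσ : ∀ r ∈ σ, r.Prime) {τ : Set ℕ}
    {x : G} (hx : IsPiElt (↑σ ∪ τ) x) :
    ∃ y z : G, x = y * z ∧ Commute y z ∧ IsPiElt (↑σ : Set ℕ) y ∧ IsPiElt τ z := by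
  set n := orderOf x with hn
  have hn0 : n ≠ 0 := (orderOf_pos x).ne'
  set S := (∏ r ∈ σ, r) ^ n with hS
  set a := n.gcd S with ha
  set m := n / a with hm
  have ham : a * m = n := Nat.mul_div_cancel' (Nat.gcd_dvd_left n S)
  have haσ : ∀ r : ℕ, r.Prime → r ∣ a → r ∈ σ := by
    intro r hr hd
    obtain ⟨s, hs, hrs⟩ :=
      (hr.prime.dvd_finsetProd_iff _).mp (hr.dvd_of_dvd_pow (hd.trans (Nat.gcd_dvd_right n S)))
    rwa [(Nat.prime_dvd_prime_iff_eq hr (hσ s hs)).mp hrs]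
  have hmσ : ∀ r : ℕ, r.Prime → r ∣ m → r ∉ σ := by
    intro r hr hd hrσ
    have h1 : r ^ n.factorization r ∣ a := by
      refine Nat.dvd_gcd (Nat.ordProj_dvd n r) ?_
      refine dvd_trans ?_ (pow_dvd_pow_of_dvd (Finset.dvd_prod_of_mem _ hrσ) n)
      exact Nat.pow_dvd_pow r (Nat.factorization_lt r hn0).le
    have h2 : r ^ (n.factorization r + 1) ∣ n := by
      have h3 := Nat.mul_dvd_mul h1 hd
      rwa [← pow_succ, ham] at h3
    exact Nat.pow_succ_factorization_not_dvd hn0 hr h2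
  have hcop : Nat.Coprime a m :=
    Nat.coprime_of_dvd fun r hr h1 h2 => hmσ r hr h2 (haσ r hr h1)
  obtain ⟨e, he1, he2⟩ := Nat.chineseRemainder hcop 1 0
  obtain ⟨f, hf1, hf2⟩ := Nat.chineseRemainder hcop 0 1
  have hsum : e + f ≡ 1 [MOD n] := by
    rw [← ham]
    exact (Nat.modEq_and_modEq_iff_modEq_mul hcop).mp ⟨he1.add hf1, he2.add hf2⟩
  have hye : (x ^ e) ^ a = 1 := by
    rw [← pow_mul]
    refine orderOf_dvd_iff_pow_eq_one.mp ?_
    rw [← hn, ← ham, mul_comm e a]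
    exact Nat.mul_dvd_mul_left a ((Nat.modEq_zero_iff_dvd).mp he2)
  have hzf : (x ^ f) ^ m = 1 := by
    rw [← pow_mul]
    refine orderOf_dvd_iff_pow_eq_one.mp ?_
    rw [← hn, ← ham]
    exact Nat.mul_dvd_mul_right ((Nat.modEq_zero_iff_dvd).mp hf1) m
  refine ⟨x ^ e, x ^ f, ?_, Commute.pow_pow_self x e f, ?_, ?_⟩
  · rw [← pow_add]
    conv_lhs => rw [← pow_one x]
    exact pow_eq_pow_iff_modEq.mpr hsum.symm
  · intro r hr hd
    exact haσ r hr (hd.trans (orderOf_dvd_of_pow_eq_one hye))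
  · intro r hr hd
    have hrm : r ∣ m := hd.trans (orderOf_dvd_of_pow_eq_one hzf)
    rcases hx r hr (by rw [← hn, ← ham]; exact hrm.mul_left a) with h | h
    · exact absurd h (hmσ r hr hrm)
    · exact h

/-- `k_{σ ∪ τ}(G) ≤ k_σ(G) |G|_τ`. -/
theorem card_piClass_union_le [Finite G] (σ τ : Finset ℕ) (hσ : ∀ r ∈ σ, r.Prime)
    (hτ : ∀ r ∈ τ, r.Prime) :
    Nat.card (PiClass ((↑σ : Set ℕ) ∪ ↑τ) G) ≤
      Nat.card (PiClass (↑σ : Set ℕ) G) * piPart τ G := by
  classical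
  let rep : PiClass (↑σ : Set ℕ) G → G := fun c => Quotient.out c.1
  have hrep : ∀ c, ConjClasses.mk (rep c) = c.1 := fun c => Quotient.out_eq c.1
  let T := Σ c : PiClass (↑σ : Set ℕ) G,
    PiClass (↑τ : Set ℕ) ↥(Subgroup.centralizer ({rep c} : Set G))
  let f : T → ConjClasses G := fun t => ConjClasses.mk (rep t.1 * (Quotient.out t.2.1).1)
  have hcov : ∀ x : G, IsPiElt ((↑σ : Set ℕ) ∪ ↑τ) x → ∃ t, f t = ConjClasses.mk x := by
    intro x hx
    obtain ⟨y, z, rfl, hyz, hy, hz⟩ := exists_decomposition_union σ hσ hx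
    let c : PiClass (↑σ : Set ℕ) G := ⟨ConjClasses.mk y, (mk_piElt_iff y).mpr hy⟩
    obtain ⟨g, hg⟩ := isConj_iff.mp
      (ConjClasses.mk_eq_mk_iff_isConj.mp (hrep c).symm : IsConj y (rep c))
    have hcomm : Commute (rep c) (g * z * g⁻¹) := by
      rw [← hg, ← MulAut.conj_apply, ← MulAut.conj_apply]
      exact hyz.map (MulAut.conj g)
    let z' : ↥(Subgroup.centralizer ({rep c} : Set G)) := ⟨g * z * g⁻¹, by
      rw [Subgroup.mem_centralizer_singleton_iff]; exact hcomm.eq.symm⟩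
    have hz' : IsPiElt (↑τ : Set ℕ) z' := fun r hr hd => by
      refine isPiElt_of_isConj (isConj_iff.mpr ⟨g, rfl⟩) hz r hr ?_
      rwa [← Subgroup.orderOf_coe] at hd
    let d : PiClass (↑τ : Set ℕ) ↥(Subgroup.centralizer ({rep c} : Set G)) :=
      ⟨ConjClasses.mk z', (mk_piElt_iff z').mpr hz'⟩
    refine ⟨⟨c, d⟩, ?_⟩
    obtain ⟨h, hh⟩ := isConj_iff.mp
      (ConjClasses.mk_eq_mk_iff_isConj.mp (Quotient.out_eq d.1).symm : IsConj z' (Quotient.out d.1))
    have hh' : (h : G) * (g * z * g⁻¹) * (h : G)⁻¹ = (Quotient.out d.1).1 := by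
      rw [← hh]; rfl
    apply ConjClasses.mk_eq_mk_iff_isConj.mpr
    refine (isConj_iff.mpr ⟨(h : G) * g, ?_⟩).symm
    show (h : G) * g * (y * z) * ((h : G) * g)⁻¹ = rep c * (Quotient.out d.1).1
    rw [← hh']
    have hhc : (h : G) * rep c = rep c * (h : G) :=
      Subgroup.mem_centralizer_singleton_iff.mp h.2
    calc (h : G) * g * (y * z) * ((h : G) * g)⁻¹
        = (h : G) * (g * y * g⁻¹) * ((g * z * g⁻¹) * (h : G)⁻¹) := by group
      _ = rep c * ((h : G) * (g * z * g⁻¹) * (h : G)⁻¹) := by rw [hg, hhc]; group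
  refine (card_piClass_le_of_cover f hcov).trans ?_
  haveI : Fintype (PiClass (↑σ : Set ℕ) G) := Fintype.ofFinite _
  rw [Nat.card_sigma]
  refine (Finset.sum_le_card_nsmul _ _ (piPart τ G) fun c _ =>
    (card_piClass_le_piPart τ hτ _).trans
      (piPart_le_of_dvd τ hτ (Subgroup.card_subgroup_dvd_card _))).trans ?_
  rw [smul_eq_mul, Finset.card_univ, Nat.card_eq_fintype_card]

end Cfsg.Agent.Lib.PiClasses
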